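import Cfsg.Agent.H6.M11.Lin
import Cfsg.Agent.H413.JOneLocal
import Cfsg.Agent.H659.AcIrr
import Cfsg.Agent.H95.JT.Core
import Cfsg.Agent.S2039
import Cfsg.Agent.FastGrp
import Cfsg.Agent.Prune
set_option linter.all false
prune_inst 0x7ffffeffbbfcffffffff7e7faedfdffdffbebfffe6fff9cbffe863ffbbdffb82cbe5fbad8fead9fe1ff7e23c18f87b53ffffeeffeb6bdc7ffffd5ff41ffbff8ffdf7b50971d68d3e8fb86fff83f0778e7f3fffffffffffffffffffffffffffbeffffffffffff
open scoped Cfsg.Agent.FastGrp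

-- part: H659/J1Lin
section
/-!
# Linear algebra for the representations of `J₁`

`scott` : `dim C(a) + dim C(b) + dim C(a b) ≤ dim V` for `a, b` with no common fixed vector and
`(a - 1) V + (b - 1) V = V`; eigenspaces of an element permuting eigenspaces of another one.
-/

set_option autoImplicit false

namespace Cfsg.Agent.H659.JL

open Module LinearMap Cfsg.Agent.H6.M11

variable {K : Type*} [Field K] {V : Type*} [AddCommGroup V] [Module K V]

/-- eigenspace -/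
abbrev E (X : End K V) (c : K) : Submodule K V := End.eigenspace X c

theorem mem_E {X : End K V} {c : K} {v : V} : v ∈ E X c ↔ X v = c • v := End.mem_eigenspace_iff

theorem mem_E1 {X : End K V} {v : V} : v ∈ E X 1 ↔ X v = v := by rw [mem_E, one_smul]

variable [FiniteDimensional K V]

/-- injective linear maps between subspaces -/
theorem finrank_le_of_inj {S T : Submodule K V} (φ : End K V) (h : ∀ v ∈ S, φ v ∈ T) (h0 : ∀ v ∈ S, φ v = 0 → v = 0) :
    finrank K S ≤ finrank K T := by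
  refine LinearMap.finrank_le_finrank_of_injective (f := (φ ∘ₗ S.subtype).codRestrict T fun v => h v v.2) ?_
  rw [injective_iff_map_eq_zero]
  intro v hv
  have h1 : φ (v : V) = 0 := congrArg Subtype.val hv
  exact Subtype.ext (h0 v v.2 h1)

/-- **Scott's lemma** for two generators -/
theorem scott (a b : End K V) (h0 : ∀ v, a v = v → b v = v → v = 0)
    (ht : LinearMap.range (a - 1) ⊔ LinearMap.range (b - 1) = ⊤) :
    finrank K (E a 1) + finrank K (E b 1) + finrank K (E (a * b) 1) ≤ finrank K V := by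
  have k1 : ∀ X : End K V, finrank K (E X 1) + finrank K (LinearMap.range (X - 1)) = finrank K V := by
    intro X
    have h1 : E X 1 = LinearMap.ker (X - 1) := by
      ext v
      rw [mem_E1, LinearMap.mem_ker, LinearMap.sub_apply, Module.End.one_apply, sub_eq_zero]
    rw [h1, add_comm]
    exact LinearMap.finrank_range_add_finrank_ker _
  have k2 := Submodule.finrank_sup_add_finrank_inf_eq (LinearMap.range (a - 1)) (LinearMap.range (b - 1))
  rw [ht, finrank_top] at k2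
  have k3 : finrank K (E (a * b) 1) ≤
      finrank K (LinearMap.range (a - 1) ⊓ LinearMap.range (b - 1) : Submodule K V) := by
    refine finrank_le_of_inj (b - 1) ?_ ?_
    · intro v hv
      rw [mem_E1, Module.End.mul_apply] at hv
      refine ⟨⟨-(b v), ?_⟩, ⟨v, rfl⟩⟩
      rw [LinearMap.sub_apply, LinearMap.sub_apply, map_neg, hv, Module.End.one_apply, Module.End.one_apply]
      abel
    · intro v hv h
      rw [mem_E1, Module.End.mul_apply] at hv
      rw [LinearMap.sub_apply, Module.End.one_apply, sub_eq_zero] at h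
      rw [h] at hv
      exact h0 v hv h
  have ka := k1 a
  have kb := k1 b
  omega

omit [FiniteDimensional K V] in
/-- intertwined eigenspaces: `Y X = X Y^r` -/
theorem map_E {X Y : End K V} {r : ℕ} (h : Y * X = X * Y ^ r) {c : K} {v : V} (hv : v ∈ E Y c) :
    X v ∈ E Y (c ^ r) := by
  rw [mem_E] at hv ⊢
  have h1 : ∀ k : ℕ, (Y ^ k) v = c ^ k • v := by
    intro k
    induction k with
    | zero => rw [pow_zero, pow_zero, one_smul, Module.End.one_apply]
    | succ k ih => rw [pow_succ, Module.End.mul_apply, hv, map_smul, ih, smul_smul, pow_succ, mul_comm]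
  rw [← Module.End.mul_apply, h, Module.End.mul_apply, h1, map_smul]

theorem finrank_E_le {X Y X' : End K V} {r : ℕ} (h : Y * X = X * Y ^ r) (hX : X' * X = 1) (c : K) :
    finrank K (E Y c) ≤ finrank K (E Y (c ^ r)) := by
  refine finrank_le_of_inj X (fun v hv => map_E h hv) fun v _ h0 => ?_
  have h1 := congrArg X' h0
  rwa [← Module.End.mul_apply, hX, Module.End.one_apply, map_zero] at h1

/-- the spectral projection on an eigenvector -/
theorem sp_apply {ζ : K} {m : ℕ} (hm : IsPrimitiveRoot ζ m) (hm0 : 0 < m) {Y : End K V} (hY : Y ^ m = 1) {b c : ℕ}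
    (hb : b < m) (hc : c < m) {v : V} (hv : v ∈ E Y (ζ ^ c)) : sp m ζ Y b v = if b = c then v else 0 := by
  have hζ0 : ζ ≠ 0 := hm.ne_zero hm0.ne'
  have hne : NeZero m := ⟨hm0.ne'⟩
  have hmk : (m : K) ≠ 0 := hm.neZero'.out
  have h1 : sp m ζ Y c v = v := (isProj_sp hmk hζ0 hm.pow_eq_one hY c).map_id v hv
  split_ifs with h
  · rw [h]; exact h1
  · rw [← h1, ← Module.End.mul_apply, sp_mul_sp hm hm0 hY hb hc h, LinearMap.zero_apply]

/-- **eigenspaces of an element that permutes eigenspaces.** -/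
theorem finrank_E_ge {ζ μ : K} {m s r : ℕ} (hm : IsPrimitiveRoot ζ m) (hm0 : 0 < m) {X Y : End K V} (hY : Y ^ m = 1)
    (hX : X ^ s = 1) (hs : 0 < s) (hμ : μ ^ s = 1) (h : Y * X = X * Y ^ r) {a₁ a₂ : ℕ} (ha₁ : a₁ < m) (ha₂ : a₂ < m)
    (h12 : ∀ k < s, a₁ * r ^ k % m ≠ a₂) (h21 : ∀ k < s, a₂ * r ^ k % m ≠ a₁) (h11 : ∀ k < s, 0 < k → a₁ * r ^ k % m ≠ a₁)
    (h22 : ∀ k < s, 0 < k → a₂ * r ^ k % m ≠ a₂) :
    finrank K (E Y (ζ ^ a₁)) + finrank K (E Y (ζ ^ a₂)) ≤ finrank K (E X μ) := by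
  have hμ0 : μ ≠ 0 := by
    rintro rfl
    rw [zero_pow hs.ne'] at hμ
    exact zero_ne_one hμ
  -- powers of X on eigenvectors of Y
  have hXk : ∀ (k a : ℕ) (v : V), v ∈ E Y (ζ ^ a) → (X ^ k) v ∈ E Y (ζ ^ (a * r ^ k % m)) := by
    intro k a v hv
    have h1 : (X ^ k) v ∈ E Y (ζ ^ (a * r ^ k)) := by
      induction k with
      | zero => rw [pow_zero, pow_zero, mul_one]; exact hv
      | succ k ih =>
        rw [show (X ^ (k + 1)) v = X ((X ^ k) v) by rw [pow_succ', Module.End.mul_apply],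
          show a * r ^ (k + 1) = a * r ^ k * r by ring, pow_mul]
        exact map_E h ih
    have h2 : ζ ^ (a * r ^ k) = ζ ^ (a * r ^ k % m) := by
      conv_lhs => rw [← Nat.div_add_mod (a * r ^ k) m, pow_add, pow_mul, hm.pow_eq_one, one_pow, one_mul]
    rwa [h2] at h1
  let N : End K V := ∑ k ∈ Finset.range s, (μ⁻¹ ^ k) • X ^ k
  have hN : ∀ v, X (N v) = μ • N v := by
    intro v
    have h1 : (μ⁻¹ • X - 1) * N = 0 := by
      have h2 : N = ∑ k ∈ Finset.range s, (μ⁻¹ • X) ^ k :=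
        Finset.sum_congr rfl fun k _ => (smul_pow _ _ _).symm
      rw [h2, mul_geom_sum, smul_pow, hX, inv_pow, hμ, inv_one, one_smul, sub_self]
    have h2 := LinearMap.congr_fun h1 v
    rw [Module.End.mul_apply, LinearMap.sub_apply, LinearMap.smul_apply, Module.End.one_apply, LinearMap.zero_apply,
      sub_eq_zero, inv_smul_eq_iff₀ hμ0] at h2
    exact h2
  have hNa : ∀ (v : V), N v = ∑ k ∈ Finset.range s, (μ⁻¹ ^ k) • (X ^ k) v := by
    intro v
    simp only [N, LinearMap.sum_apply, LinearMap.smul_apply]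
  -- projections of N v
  have hp1 : ∀ (a b : ℕ) (v : V), b < m → v ∈ E Y (ζ ^ a) → (∀ k < s, a * r ^ k % m ≠ b) → sp m ζ Y b (N v) = 0 := by
    intro a b v hb hv hk
    rw [hNa, map_sum]
    refine Finset.sum_eq_zero fun k hk' => ?_
    rw [map_smul, sp_apply hm hm0 hY hb (Nat.mod_lt _ hm0) (hXk k a v hv),
      if_neg (hk k (Finset.mem_range.1 hk')).symm, smul_zero]
  have hp2 : ∀ (a : ℕ) (v : V), a < m → v ∈ E Y (ζ ^ a) → (∀ k < s, 0 < k → a * r ^ k % m ≠ a) →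
      sp m ζ Y a (N v) = v := by
    intro a v ha hv hk
    rw [hNa, map_sum, Finset.sum_eq_single 0]
    · rw [pow_zero, one_smul, pow_zero, Module.End.one_apply, sp_apply hm hm0 hY ha ha hv, if_pos rfl]
    · intro k hk' hk0
      rw [map_smul, sp_apply hm hm0 hY ha (Nat.mod_lt _ hm0) (hXk k a v hv),
        if_neg (hk k (Finset.mem_range.1 hk') (Nat.pos_of_ne_zero hk0)).symm, smul_zero]
    · intro h0
      exact absurd (Finset.mem_range.2 hs) h0
  have hne : a₁ ≠ a₂ := by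
    intro h0
    have := h12 0 hs
    rw [pow_zero, mul_one, Nat.mod_eq_of_lt ha₁] at this
    exact this h0
  -- the sum is direct
  have hdir : E Y (ζ ^ a₁) ⊓ E Y (ζ ^ a₂) = ⊥ := by
    rw [eq_bot_iff]
    rintro v ⟨h1, h2⟩
    have e1 := sp_apply hm hm0 hY ha₁ ha₁ h1
    have e2 := sp_apply hm hm0 hY ha₁ ha₂ h2
    rw [if_pos rfl] at e1
    rw [if_neg hne] at e2
    rw [Submodule.mem_bot, ← e1, e2]
  have hsum := Submodule.finrank_sup_add_finrank_inf_eq (E Y (ζ ^ a₁)) (E Y (ζ ^ a₂))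
  rw [hdir, finrank_bot, add_zero] at hsum
  rw [← hsum]
  refine finrank_le_of_inj N (fun v _ => mem_E.2 (hN v)) ?_
  intro v hv h0
  obtain ⟨v₁, hv₁, v₂, hv₂, rfl⟩ := Submodule.mem_sup.1 hv
  rw [map_add] at h0
  have e1 := congrArg (sp m ζ Y a₁) h0
  have e2 := congrArg (sp m ζ Y a₂) h0
  rw [map_add, map_zero, hp2 a₁ v₁ ha₁ hv₁ h11, hp1 a₂ a₁ v₂ ha₁ hv₂ h21, add_zero] at e1
  rw [map_add, map_zero, hp2 a₂ v₂ ha₂ hv₂ h22, hp1 a₁ a₂ v₁ ha₂ hv₁ h12, zero_add] at e2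
  rw [e1, e2, add_zero]

/-- an involution in odd characteristic -/
theorem split (h2 : (2 : K) ≠ 0) {X : End K V} (hX : X * X = 1) (S : Submodule K V) (hS : ∀ v ∈ S, X v ∈ S) :
    finrank K S = finrank K (S ⊓ E X 1 : Submodule K V) + finrank K (S ⊓ E X (-1) : Submodule K V) := by
  have h1 : IsPrimitiveRoot (-1 : K) 2 := by
    refine IsPrimitiveRoot.mk_of_lt _ (by norm_num) (by norm_num) ?_
    intro l hl hl2
    have : l = 1 := by omega
    subst this
    rw [pow_one]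
    intro h
    apply h2
    have h3 : (2 : K) = 1 - -1 := by norm_num
    rw [h3, h, sub_self]
  have h3 := finrank_eq_sum h1 (by norm_num) (by rw [pow_two]; exact hX) S hS
  rw [Fin.sum_univ_two] at h3
  have e0 : ((-1 : K) ^ ((0 : Fin 2) : ℕ)) = 1 := by simp
  have e1 : ((-1 : K) ^ ((1 : Fin 2) : ℕ)) = -1 := by simp
  rw [e0, e1] at h3
  exact h3

/-- an involution in characteristic 2 -/
theorem half (h2 : (2 : K) = 0) {X : End K V} (hX : X * X = 1) (S : Submodule K V) (hS : ∀ v ∈ S, X v ∈ S) :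
    finrank K S ≤ 2 * finrank K (S ⊓ E X 1 : Submodule K V) := by
  let φ : S →ₗ[K] S := ((X - 1) ∘ₗ S.subtype).codRestrict S fun v => S.sub_mem (hS v v.2) v.2
  have h1 := LinearMap.finrank_range_add_finrank_ker φ
  have h3 : ∀ v : V, X (X v) = v := fun v => LinearMap.congr_fun hX v
  have hk : finrank K (LinearMap.ker φ) ≤ finrank K (S ⊓ E X 1 : Submodule K V) := by
    have : (LinearMap.ker φ).map S.subtype ≤ S ⊓ E X 1 := by
      rintro _ ⟨v, hv, rfl⟩
      refine ⟨v.2, mem_E1.2 ?_⟩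
      have h4 : X (v : V) - v = 0 := congrArg Subtype.val hv
      exact sub_eq_zero.1 h4
    exact (LinearEquiv.finrank_eq
      (Submodule.equivMapOfInjective S.subtype S.subtype_injective (LinearMap.ker φ))).trans_le
      (Submodule.finrank_mono this)
  have hr : finrank K (LinearMap.range φ) ≤ finrank K (S ⊓ E X 1 : Submodule K V) := by
    have : (LinearMap.range φ).map S.subtype ≤ S ⊓ E X 1 := by
      rintro _ ⟨_, ⟨v, rfl⟩, rfl⟩
      refine ⟨(φ v).2, mem_E1.2 ?_⟩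
      change X (X (v : V) - v) = X (v : V) - v
      rw [map_sub, h3]
      have h4 : (2 : K) • (X (v : V) - v) = 0 := by rw [h2, zero_smul]
      rw [← sub_eq_zero]
      have h5 : (v : V) - X v - (X v - v) = -((2 : K) • (X (v : V) - v)) := by module
      rw [h5, h4, neg_zero]
    exact (LinearEquiv.finrank_eq
      (Submodule.equivMapOfInjective S.subtype S.subtype_injective (LinearMap.range φ))).trans_le
      (Submodule.finrank_mono this)
  omega

end Cfsg.Agent.H659.JL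
end

-- part: H659/J1Elts
section
/-!
# Elements and relations in the explicit group `J₁`

`y` of order 11 and `x` of order 10 with `y x = x y²`; `z` of order 7 and `w6` of order 6 with `z w6 = w6 z³`; an
elementary abelian group `⟨t, f, g⟩` of order 8 (`t = x⁵`) and `s` permuting its involutions; generating triples of
types `(2,3,7)`, `(2,3,11)`, `(2,5,5)`.
-/

set_option autoImplicit false

namespace Cfsg.Agent.H659.J1

open Cfsg.Agent.SporadicB.J1.Mat Cfsg.Agent.SporadicB.J1.Data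
open Cfsg.Agent.SporadicB.J1.Main
open Cfsg.Agent.SporadicB.J1.Main (X Y)
open Cfsg.Spor (jankoX jankoY J1)

def y : J1 := ev [0, 1, 1]
def x : J1 := ev [3, 2, 1, 0, 0, 1, 2, 1, 2, 1, 1, 0]
def t : J1 := x ^ 5
def x5 : J1 := x ^ 2
def z : J1 := ev [0]
def w6 : J1 := ev [1, 1, 2, 1, 2, 2, 1, 0, 1, 2, 3, 3, 2, 3, 2, 3]
def w : J1 := w6 ^ 2
def f : J1 := ev [0, 3, 0, 1, 2, 1, 0, 1, 0, 0]
def g : J1 := ev [0, 3, 2, 3, 0, 0, 3, 0, 0, 3, 0, 3, 3, 2, 1]
def s : J1 := ev [2, 1, 1, 2, 1, 1, 0, 3, 2]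
def h5 : J1 := ev [0, 1, 0, 1, 2, 3, 0]
def A7 : J1 := ev [1, 0, 0, 3, 3, 0, 0, 3, 3, 0, 0, 1, 1]
def B7 : J1 := ev [2, 3, 0]
def C7 : J1 := ev [3, 0, 3, 3, 2, 2, 3, 3]
def A11 : J1 := ev [0, 1, 0, 1, 0, 1, 2, 3, 0, 3, 2]
def B11 : J1 := ev [1, 0, 3, 2, 3]
def C11 : J1 := ev [2, 1, 2, 1, 0, 1, 1, 2, 2, 2]
def A5 : J1 := ev [2, 3, 2, 3, 3, 2, 3, 0, 3, 2, 1]
def B5 : J1 := ev [0, 1, 1, 0, 1, 2, 2]
def C5 : J1 := ev [3, 2, 3, 2, 2, 3, 0]

theorem ry : _root_.Cfsg.Agent.SporadicB.J1.Main.Rep y (evC [0, 1, 1]) := rep_ev _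
theorem rx : _root_.Cfsg.Agent.SporadicB.J1.Main.Rep x (evC [3, 2, 1, 0, 0, 1, 2, 1, 2, 1, 1, 0]) := rep_ev _
theorem rt : _root_.Cfsg.Agent.SporadicB.J1.Main.Rep t (powC (evC [3, 2, 1, 0, 0, 1, 2, 1, 2, 1, 1, 0]) 5 cI) := rx.pow 5
theorem rx5 : _root_.Cfsg.Agent.SporadicB.J1.Main.Rep x5 (powC (evC [3, 2, 1, 0, 0, 1, 2, 1, 2, 1, 1, 0]) 2 cI) := rx.pow 2
theorem rz : _root_.Cfsg.Agent.SporadicB.J1.Main.Rep z (evC [0]) := rep_ev _
theorem rw6 : _root_.Cfsg.Agent.SporadicB.J1.Main.Rep w6 (evC [1, 1, 2, 1, 2, 2, 1, 0, 1, 2, 3, 3, 2, 3, 2, 3]) := rep_ev _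
theorem rw_ : _root_.Cfsg.Agent.SporadicB.J1.Main.Rep w (powC (evC [1, 1, 2, 1, 2, 2, 1, 0, 1, 2, 3, 3, 2, 3, 2, 3]) 2 cI) := rw6.pow 2
theorem rf : _root_.Cfsg.Agent.SporadicB.J1.Main.Rep f (evC [0, 3, 0, 1, 2, 1, 0, 1, 0, 0]) := rep_ev _
theorem rg : _root_.Cfsg.Agent.SporadicB.J1.Main.Rep g (evC [0, 3, 2, 3, 0, 0, 3, 0, 0, 3, 0, 3, 3, 2, 1]) := rep_ev _
theorem rs : _root_.Cfsg.Agent.SporadicB.J1.Main.Rep s (evC [2, 1, 1, 2, 1, 1, 0, 3, 2]) := rep_ev _
theorem rh5 : _root_.Cfsg.Agent.SporadicB.J1.Main.Rep h5 (evC [0, 1, 0, 1, 2, 3, 0]) := rep_ev _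
theorem rA7 : _root_.Cfsg.Agent.SporadicB.J1.Main.Rep A7 (evC [1, 0, 0, 3, 3, 0, 0, 3, 3, 0, 0, 1, 1]) := rep_ev _
theorem rB7 : _root_.Cfsg.Agent.SporadicB.J1.Main.Rep B7 (evC [2, 3, 0]) := rep_ev _
theorem rC7 : _root_.Cfsg.Agent.SporadicB.J1.Main.Rep C7 (evC [3, 0, 3, 3, 2, 2, 3, 3]) := rep_ev _
theorem rA11 : _root_.Cfsg.Agent.SporadicB.J1.Main.Rep A11 (evC [0, 1, 0, 1, 0, 1, 2, 3, 0, 3, 2]) := rep_ev _
theorem rB11 : _root_.Cfsg.Agent.SporadicB.J1.Main.Rep B11 (evC [1, 0, 3, 2, 3]) := rep_ev _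
theorem rC11 : _root_.Cfsg.Agent.SporadicB.J1.Main.Rep C11 (evC [2, 1, 2, 1, 0, 1, 1, 2, 2, 2]) := rep_ev _
theorem rA5 : _root_.Cfsg.Agent.SporadicB.J1.Main.Rep A5 (evC [2, 3, 2, 3, 3, 2, 3, 0, 3, 2, 1]) := rep_ev _
theorem rB5 : _root_.Cfsg.Agent.SporadicB.J1.Main.Rep B5 (evC [0, 1, 1, 0, 1, 2, 2]) := rep_ev _
theorem rC5 : _root_.Cfsg.Agent.SporadicB.J1.Main.Rep C5 (evC [3, 2, 3, 2, 2, 3, 0]) := rep_ev _

theorem y_pow : y ^ 11 = 1 := (ry.pow 11).eq Rep.one (by decide +kernel)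
theorem y_ne : y ≠ 1 := ry.ne Rep.one (by decide +kernel)
theorem x_pow : x ^ 10 = 1 := (rx.pow 10).eq Rep.one (by decide +kernel)
theorem yx : y * x = x * y ^ 2 := (ry.mul rx).eq (rx.mul (ry.pow 2)) (by decide +kernel)
theorem z_pow : z ^ 7 = 1 := (rz.pow 7).eq Rep.one (by decide +kernel)
theorem z_ne : z ≠ 1 := rz.ne Rep.one (by decide +kernel)
theorem w6_pow : w6 ^ 6 = 1 := (rw6.pow 6).eq Rep.one (by decide +kernel)
theorem zw6 : z * w6 = w6 * z ^ 3 := (rz.mul rw6).eq (rw6.mul (rz.pow 3)) (by decide +kernel)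
theorem f_sq : f * f = 1 := (rf.mul rf).eq Rep.one (by decide +kernel)
theorem g_sq : g * g = 1 := (rg.mul rg).eq Rep.one (by decide +kernel)
theorem tf : t * f = f * t := (rt.mul rf).eq (rf.mul rt) (by decide +kernel)
theorem tg : t * g = g * t := (rt.mul rg).eq (rg.mul rt) (by decide +kernel)
theorem fg : f * g = g * f := (rf.mul rg).eq (rg.mul rf) (by decide +kernel)
theorem sf : s * f = t * s := (rs.mul rf).eq (rt.mul rs) (by decide +kernel)
theorem sg : s * g = f * s := (rs.mul rg).eq (rf.mul rs) (by decide +kernel)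
theorem st : s * (t * f) = g * s := (rs.mul (rt.mul rf)).eq (rg.mul rs) (by decide +kernel)
theorem x5h : x5 * h5 = h5 * x5 ^ 4 := (rx5.mul rh5).eq (rh5.mul (rx5.pow 4)) (by decide +kernel)
theorem bt7 : B7 * t = A7 * B7 := (rB7.mul rt).eq (rA7.mul rB7) (by decide +kernel)
theorem cz7 : C7 * z = (A7 * w) * C7 := (rC7.mul rz).eq ((rA7.mul rw_).mul rC7) (by decide +kernel)
theorem bt11 : B11 * t = A11 * B11 := (rB11.mul rt).eq (rA11.mul rB11) (by decide +kernel)
theorem cy11 : C11 * y = (A11 * w) * C11 := (rC11.mul ry).eq ((rA11.mul rw_).mul rC11) (by decide +kernel)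
theorem bt5 : B5 * t = A5 * B5 := (rB5.mul rt).eq (rA5.mul rB5) (by decide +kernel)
theorem cx5 : C5 * x5 ^ 2 = (A5 * x5) * C5 := (rC5.mul (rx5.pow 2)).eq ((rA5.mul rx5).mul rC5) (by decide +kernel)

theorem t_sq : t * t = 1 := by
  change x ^ 5 * x ^ 5 = 1
  rw [← pow_add, x_pow]

theorem x5_pow : x5 ^ 5 = 1 := by
  change (x ^ 2) ^ 5 = 1
  rw [← pow_mul, x_pow]

theorem w_pow : w ^ 3 = 1 := by
  change (w6 ^ 2) ^ 3 = 1
  rw [← pow_mul, w6_pow]

theorem t_x5 : t * x5 = x5 * t := by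
  change x ^ 5 * x ^ 2 = x ^ 2 * x ^ 5
  rw [← pow_add, ← pow_add]

theorem yx5 : y * x5 = x5 * y ^ 4 := (ry.mul rx5).eq (rx5.mul (ry.pow 4)) (by decide +kernel)
theorem ty : t * y = y ^ 10 * t := (rt.mul ry).eq ((ry.pow 10).mul rt) (by decide +kernel)
theorem ty' : t * y ^ 10 = y * t := (rt.mul (ry.pow 10)).eq (ry.mul rt) (by decide +kernel)
theorem s_tg : s * (t * g) = (t * (f * g)) * s := (rs.mul (rt.mul rg)).eq ((rt.mul (rf.mul rg)).mul rs) (by decide +kernel)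
theorem s_fg : s * (f * g) = (t * f) * s := (rs.mul (rf.mul rg)).eq ((rt.mul rf).mul rs) (by decide +kernel)
theorem s_tfg : s * (t * (f * g)) = (f * g) * s := (rs.mul (rt.mul (rf.mul rg))).eq ((rf.mul rg).mul rs) (by decide +kernel)
theorem zw : z * w = w * z ^ 2 := (rz.mul rw_).eq (rw_.mul (rz.pow 2)) (by decide +kernel)

/-! ### generation -/

/-- words in `a`, `b`, `c` -/
def ew (a b c : J1) : List ℕ → J1
  | [] => 1
  | 0 :: l => a * ew a b c l
  | 1 :: l => b * ew a b c l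
  | _ :: l => c * ew a b c l

def ewC (a b c : ℕ) : List ℕ → ℕ
  | [] => cI
  | 0 :: l => mulC a (ewC a b c l)
  | 1 :: l => mulC b (ewC a b c l)
  | _ :: l => mulC c (ewC a b c l)

theorem rep_ew {a b c : J1} {a' b' c' : ℕ} (ha : _root_.Cfsg.Agent.SporadicB.J1.Main.Rep a a') (hb : _root_.Cfsg.Agent.SporadicB.J1.Main.Rep b b') (hc : _root_.Cfsg.Agent.SporadicB.J1.Main.Rep c c') :
    ∀ l, _root_.Cfsg.Agent.SporadicB.J1.Main.Rep (ew a b c l) (ewC a' b' c' l)
  | [] => Rep.one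
  | 0 :: l => ha.mul (rep_ew ha hb hc l)
  | 1 :: l => hb.mul (rep_ew ha hb hc l)
  | (_ + 2) :: l => hc.mul (rep_ew ha hb hc l)

theorem ew_mem {a b c : J1} (M : Submonoid J1) (ha : a ∈ M) (hb : b ∈ M) (hc : c ∈ M) : ∀ l, ew a b c l ∈ M
  | [] => M.one_mem
  | 0 :: l => M.mul_mem ha (ew_mem M ha hb hc l)
  | 1 :: l => M.mul_mem hb (ew_mem M ha hb hc l)
  | (_ + 2) :: l => M.mul_mem hc (ew_mem M ha hb hc l)

theorem mem_all {M : Submonoid J1} (hX : X ∈ M) (hY : Y ∈ M) (k : J1) : k ∈ M := by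
  have h1 : k ∈ Subgroup.closure ({X, Y} : Set J1) := by
    rw [show Subgroup.closure ({X, Y} : Set J1) = ⊤ from data.hgen]
    trivial
  have hinv : ∀ u ∈ M, u⁻¹ ∈ M := by
    intro u hu
    have h2 : u⁻¹ = u ^ (Nat.card J1 - 1) := by
      have h3 : u ^ (Nat.card J1 - 1) * u = 1 := by
        rw [← pow_succ, Nat.sub_add_cancel Nat.card_pos, pow_card_eq_one']
      exact (eq_inv_of_mul_eq_one_left h3).symm
    rw [h2]
    exact pow_mem hu _
  induction h1 using Subgroup.closure_induction with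
  | mem u hu =>
    rcases hu with rfl | rfl
    · exact hX
    · exact hY
  | one => exact M.one_mem
  | mul a b _ _ ha hb => exact M.mul_mem ha hb
  | inv a _ ha => exact hinv a ha

theorem gen7 {M : Submonoid J1} (ha : A7 ∈ M) (hb : w ∈ M) (k : J1) : k ∈ M := by
  have hw := fun l => ew_mem M ha hb (M.mul_mem hb hb) l
  have rw2 := fun l => rep_ew rA7 rw_ (rw_.mul rw_) l
  refine mem_all ?_ ?_ k
  · have : ew A7 w (w * w) [1, 0, 1, 0, 2, 0, 1, 0, 2, 0, 1, 0, 2, 0, 2, 0, 1, 0, 2, 0, 1, 0, 1, 0, 2, 0, 1, 0] = X :=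
      (rw2 _).eq repX (by decide +kernel)
    rw [← this]; exact hw _
  · have : ew A7 w (w * w) [0, 2, 0, 1, 0, 1, 0, 2, 0, 1, 0, 2, 0, 1, 0, 1, 0, 2, 0, 2, 0, 1, 0, 2, 0, 2, 0, 1, 0, 1] = Y :=
      (rw2 _).eq repY (by decide +kernel)
    rw [← this]; exact hw _

theorem gen11 {M : Submonoid J1} (ha : A11 ∈ M) (hb : w ∈ M) (k : J1) : k ∈ M := by
  have hw := fun l => ew_mem M ha hb (M.mul_mem hb hb) l
  have rw2 := fun l => rep_ew rA11 rw_ (rw_.mul rw_) l
  refine mem_all ?_ ?_ k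
  · have : ew A11 w (w * w) [0, 2, 0, 1, 0, 2, 0, 1, 0, 1, 0, 2, 0, 2, 0, 2] = X :=
      (rw2 _).eq repX (by decide +kernel)
    rw [← this]; exact hw _
  · have : ew A11 w (w * w) [2, 0, 1, 0, 2, 0, 2, 0, 1, 0, 2, 0, 2, 0, 2, 0, 1, 0, 1, 0, 1, 0] = Y :=
      (rw2 _).eq repY (by decide +kernel)
    rw [← this]; exact hw _

theorem gen5 {M : Submonoid J1} (ha : A5 ∈ M) (hb : x5 ∈ M) (k : J1) : k ∈ M := by
  have hw := fun l => ew_mem M ha hb (pow_mem hb 4) l
  have rw2 := fun l => rep_ew rA5 rx5 (rx5.pow 4) l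
  refine mem_all ?_ ?_ k
  · have : ew A5 x5 (x5 ^ 4) [1, 1, 0, 2, 2, 0, 1, 0] = X :=
      (rw2 _).eq repX (by decide +kernel)
    rw [← this]; exact hw _
  · have : ew A5 x5 (x5 ^ 4) [0, 1, 0, 2, 2, 0, 1, 1, 0, 2, 2, 0, 2, 2, 0, 1, 1, 0, 2, 0] = Y :=
      (rw2 _).eq repY (by decide +kernel)
    rw [← this]; exact hw _

end Cfsg.Agent.H659.J1
end

-- part: H659/J1Rep
section
/-!
# Representations of `J₁` of degree ≤ 12

`no_rep` : an irreducible representation of `J₁` of degree 2, …, 12 lives in characteristic 11.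
-/

set_option autoImplicit false

namespace Cfsg.Agent.H659.J1

open Module LinearMap Cfsg.Agent.H6.M11 Cfsg.Agent.H659.JL
open Cfsg.Spor (J1)

variable {K : Type*} [Field K] {V : Type*} [AddCommGroup V] [Module K V] (ρ : J1 →* End K V)

theorem rel_of {a b c d : J1} (h : a * b = c * d) : ρ a * ρ b = ρ c * ρ d := by rw [← map_mul, h, map_mul]

theorem inv_mul' (a : J1) : ρ a⁻¹ * ρ a = 1 := by rw [← map_mul, inv_mul_cancel, map_one]

theorem mul_app (a b : J1) (v : V) : ρ a (ρ b v) = ρ (a * b) v := by rw [map_mul, Module.End.mul_apply]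

theorem inj (a : J1) {v : V} (h : ρ a v = 0) : v = 0 := by
  have h1 := congrArg (ρ a⁻¹) h
  rwa [mul_app, inv_mul_cancel, map_one, Module.End.one_apply, map_zero] at h1

/-- `k` is in the stabiliser of all that -/
def stab (L : Submodule K V) : Submonoid J1 where
  carrier := {k | ∀ v ∈ L, ρ k v ∈ L}
  one_mem' := fun v hv => by rw [map_one, Module.End.one_apply]; exact hv
  mul_mem' := fun {a b} ha hb v hv => by rw [← mul_app]; exact ha _ (hb _ hv)

def fixer (v : V) : Submonoid J1 where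
  carrier := {k | ρ k v = v}
  one_mem' := by rw [Set.mem_ofPred_eq, map_one, Module.End.one_apply]
  mul_mem' := fun {a b} ha hb => by
    rw [Set.mem_ofPred_eq] at ha hb ⊢
    rw [← mul_app, hb, ha]

def triv : Submonoid J1 where
  carrier := {k | ρ k = 1}
  one_mem' := map_one ρ
  mul_mem' := fun {a b} ha hb => by
    rw [Set.mem_ofPred_eq] at ha hb ⊢
    rw [map_mul, ha, hb, one_mul]

variable [FiniteDimensional K V]

theorem conj_E_le {a b u : J1} (h : u * a = b * u) (c : K) : finrank K (E (ρ a) c) ≤ finrank K (E (ρ b) c) := by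
  refine finrank_le_of_inj (ρ u) ?_ fun v _ h0 => inj ρ u h0
  intro v hv
  rw [mem_E] at hv ⊢
  rw [mul_app, ← h, ← mul_app, hv, map_smul]

theorem conj_E {a b u : J1} (h : u * a = b * u) (c : K) : finrank K (E (ρ a) c) = finrank K (E (ρ b) c) := by
  refine le_antisymm (conj_E_le ρ h c) (conj_E_le ρ (u := u⁻¹) ?_ c)
  calc u⁻¹ * b = u⁻¹ * (b * u) * u⁻¹ := by group
    _ = u⁻¹ * (u * a) * u⁻¹ := by rw [h]
    _ = a * u⁻¹ := by group

variable (hirr : ∀ L : Submodule K V, (∀ k, ∀ v ∈ L, ρ k v ∈ L) → L = ⊥ ∨ L = ⊤) (hn : 2 ≤ finrank K V)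

include hirr hn

omit [FiniteDimensional K V] in
theorem fix_zero {v : V} (h : ∀ k, ρ k v = v) : v = 0 := by
  by_contra hv
  have h1 : finrank K (Submodule.span K {v}) = 1 := finrank_span_singleton hv
  rcases hirr (Submodule.span K {v}) (by
    intro k u hu
    obtain ⟨c, rfl⟩ := Submodule.mem_span_singleton.1 hu
    rw [map_smul, h]
    exact hu) with h2 | h2
  · rw [h2, finrank_bot] at h1
    omega
  · rw [h2, finrank_top] at h1
    omega

theorem not_triv (h : ∀ k, ρ k = 1) : False := by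
  have : Nontrivial V := Module.nontrivial_of_finrank_pos (R := K) (by omega)
  obtain ⟨v, hv⟩ := exists_ne (0 : V)
  exact hv (fix_zero ρ hirr hn fun k => by rw [h, Module.End.one_apply])

theorem ne_one {k : J1} (hk : k ≠ 1) : ρ k ≠ 1 := by
  intro h
  have hs : IsSimpleGroup J1 := Cfsg.Agent.SporadicB.J1.Main.isJ1.1
  have h1 : ρ.toHomUnits.ker = ⊥ ∨ ρ.toHomUnits.ker = ⊤ := hs.eq_bot_or_eq_top_of_normal _ inferInstance
  have h2 : k ∈ ρ.toHomUnits.ker := by
    rw [MonoidHom.mem_ker]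
    exact Units.ext h
  rcases h1 with h1 | h1
  · rw [h1, Subgroup.mem_bot] at h2
    exact hk h2
  · apply not_triv ρ hirr hn
    intro u
    have h3 : u ∈ ρ.toHomUnits.ker := by rw [h1]; trivial
    exact congrArg Units.val (MonoidHom.mem_ker.1 h3)

theorem scott_J {a b : J1} (gen : ∀ M : Submonoid J1, a ∈ M → b ∈ M → ∀ k, k ∈ M) :
    finrank K (E (ρ a) 1) + finrank K (E (ρ b) 1) + finrank K (E (ρ (a * b)) 1) ≤ finrank K V := by
  rw [map_mul]
  refine scott (ρ a) (ρ b) ?_ ?_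
  · intro v ha hb
    exact fix_zero ρ hirr hn fun k => gen (fixer ρ v) ha hb k
  · have hmem : ∀ (c : J1) (L : Submodule K V), LinearMap.range (ρ c - 1) ≤ L → c ∈ stab ρ L := by
      intro c L hL v hv
      have h1 : ρ c v = (ρ c - 1) v + v := by
        rw [LinearMap.sub_apply, Module.End.one_apply, sub_add_cancel]
      rw [h1]
      exact L.add_mem (hL ⟨v, rfl⟩) hv
    rcases hirr (LinearMap.range (ρ a - 1) ⊔ LinearMap.range (ρ b - 1))
      (fun k => gen (stab ρ _) (hmem a _ le_sup_left) (hmem b _ le_sup_right) k) with h1 | h1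
    · exfalso
      apply not_triv ρ hirr hn
      have h2 : ∀ c : J1, LinearMap.range (ρ c - 1) ≤ (⊥ : Submodule K V) → c ∈ triv ρ := by
        intro c hc
        rw [le_bot_iff, LinearMap.range_eq_bot, sub_eq_zero] at hc
        exact hc
      exact fun k => gen (triv ρ) (h2 a (h1 ▸ le_sup_left)) (h2 b (h1 ▸ le_sup_right)) k
    · exact h1

omit hirr hn

/-! ### the elements of order 11 and 7 -/

omit [FiniteDimensional K V] in
theorem y11 : ρ y ^ 11 = 1 := by rw [← map_pow, y_pow, map_one]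
omit [FiniteDimensional K V] in
theorem z7 : ρ z ^ 7 = 1 := by rw [← map_pow, z_pow, map_one]

theorem dims_y {ζ : K} (hζ : IsPrimitiveRoot ζ 11) (b : ℕ) (hb : b < 11) (h0 : 0 < b) :
    finrank K (E (ρ y) (ζ ^ b)) = finrank K (E (ρ y) (ζ ^ 1)) := by
  have key : ∀ c : K, finrank K (E (ρ y) c) ≤ finrank K (E (ρ y) (c ^ 2)) := fun c =>
    finrank_E_le (r := 2) (X' := ρ x⁻¹) (by rw [← map_pow]; exact rel_of ρ yx) (inv_mul' ρ x) c
  have e : ∀ a c : ℕ, a * 2 % 11 = c → finrank K (E (ρ y) (ζ ^ a)) ≤ finrank K (E (ρ y) (ζ ^ c)) := by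
    intro a c h
    have h1 := key (ζ ^ a)
    rw [← pow_mul] at h1
    have h2 : ζ ^ (a * 2) = ζ ^ c := by
      rw [← h]
      conv_lhs => rw [← Nat.div_add_mod (a * 2) 11, pow_add, pow_mul, hζ.pow_eq_one, one_pow, one_mul]
    rwa [h2] at h1
  have e1 := e 1 2 rfl
  have e2 := e 2 4 rfl
  have e4 := e 4 8 rfl
  have e8 := e 8 5 rfl
  have e5 := e 5 10 rfl
  have e10 := e 10 9 rfl
  have e9 := e 9 7 rfl
  have e7 := e 7 3 rfl
  have e3 := e 3 6 rfl
  have e6 := e 6 1 rfl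
  interval_cases b <;> (clear * - e1 e2 e4 e8 e5 e10 e9 e7 e3 e6; omega)

theorem dims_z {ζ : K} (hζ : IsPrimitiveRoot ζ 7) (b : ℕ) (hb : b < 7) (h0 : 0 < b) :
    finrank K (E (ρ z) (ζ ^ b)) = finrank K (E (ρ z) (ζ ^ 1)) := by
  have key : ∀ c : K, finrank K (E (ρ z) c) ≤ finrank K (E (ρ z) (c ^ 3)) := fun c =>
    finrank_E_le (r := 3) (X' := ρ w6⁻¹) (by rw [← map_pow]; exact rel_of ρ zw6) (inv_mul' ρ w6) c
  have e : ∀ a c : ℕ, a * 3 % 7 = c → finrank K (E (ρ z) (ζ ^ a)) ≤ finrank K (E (ρ z) (ζ ^ c)) := by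
    intro a c h
    have h1 := key (ζ ^ a)
    rw [← pow_mul] at h1
    have h2 : ζ ^ (a * 3) = ζ ^ c := by
      rw [← h]
      conv_lhs => rw [← Nat.div_add_mod (a * 3) 7, pow_add, pow_mul, hζ.pow_eq_one, one_pow, one_mul]
    rwa [h2] at h1
  have e1 := e 1 3 rfl
  have e3 := e 3 2 rfl
  have e2 := e 2 6 rfl
  have e6 := e 6 4 rfl
  have e4 := e 4 5 rfl
  have e5 := e 5 1 rfl
  interval_cases b <;> (clear * - e1 e3 e2 e6 e4 e5; omega)

theorem sum_y {ζ : K} (hζ : IsPrimitiveRoot ζ 11) :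
    finrank K V = finrank K (E (ρ y) 1) + 10 * finrank K (E (ρ y) (ζ ^ 1)) := by
  rw [finrank_top_eq_sum hζ (by norm_num) (y11 ρ), Fin.sum_univ_succ]
  have h : ∀ i : Fin 10, finrank K (End.eigenspace (ρ y) (ζ ^ ((i.succ : Fin 11) : ℕ))) =
      finrank K (E (ρ y) (ζ ^ 1)) := by
    intro i
    exact dims_y ρ hζ _ (Fin.isLt _) (by rw [Fin.val_succ]; omega)
  rw [Finset.sum_congr rfl fun i _ => h i, Finset.sum_const, Finset.card_univ, Fintype.card_fin, smul_eq_mul,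
    Fin.val_zero, pow_zero]

theorem sum_z {ζ : K} (hζ : IsPrimitiveRoot ζ 7) :
    finrank K V = finrank K (E (ρ z) 1) + 6 * finrank K (E (ρ z) (ζ ^ 1)) := by
  rw [finrank_top_eq_sum hζ (by norm_num) (z7 ρ), Fin.sum_univ_succ]
  have h : ∀ i : Fin 6, finrank K (End.eigenspace (ρ z) (ζ ^ ((i.succ : Fin 7) : ℕ))) =
      finrank K (E (ρ z) (ζ ^ 1)) := by
    intro i
    exact dims_z ρ hζ _ (Fin.isLt _) (by rw [Fin.val_succ]; omega)
  rw [Finset.sum_congr rfl fun i _ => h i, Finset.sum_const, Finset.card_univ, Fintype.card_fin, smul_eq_mul,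
    Fin.val_zero, pow_zero]

theorem eq_one_of_full {X : End K V} (h : finrank K (E X 1) = finrank K V) : X = 1 := by
  have h1 : E X 1 = ⊤ := Submodule.eq_top_of_finrank_eq h
  ext v
  have h2 : v ∈ E X 1 := by rw [h1]; trivial
  rw [mem_E1] at h2
  rw [h2, Module.End.one_apply]

include hirr hn

theorem pos_y {ζ : K} (hζ : IsPrimitiveRoot ζ 11) : 0 < finrank K (E (ρ y) (ζ ^ 1)) := by
  rcases Nat.eq_zero_or_pos (finrank K (E (ρ y) (ζ ^ 1))) with h | h
  · have h1 := sum_y ρ hζ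
    exact absurd (eq_one_of_full (X := ρ y) (by omega)) (ne_one ρ hirr hn y_ne)
  · exact h

theorem pos_z {ζ : K} (hζ : IsPrimitiveRoot ζ 7) : 0 < finrank K (E (ρ z) (ζ ^ 1)) := by
  rcases Nat.eq_zero_or_pos (finrank K (E (ρ z) (ζ ^ 1))) with h | h
  · have h1 := sum_z ρ hζ
    exact absurd (eq_one_of_full (X := ρ z) (by omega)) (ne_one ρ hirr hn z_ne)
  · exact h

/-! ### characteristic 2 -/

theorem no_two (h2 : (2 : K) = 0) {ζ η l : K} (hζ : IsPrimitiveRoot ζ 11) (hη : IsPrimitiveRoot η 7)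
    (hl : IsPrimitiveRoot l 5) (h12 : finrank K V ≤ 12) : False := by
  have py := pos_y ρ hirr hn hζ
  have pz := pos_z ρ hirr hn hη
  have sy := sum_y ρ hζ
  have sz := sum_z ρ hη
  -- the involution
  have ht : ρ t * ρ t = 1 := by rw [← map_mul, t_sq, map_one]
  have Ft : finrank K V ≤ 2 * finrank K (E (ρ t) 1) := by
    have h1 := half h2 ht ⊤ (fun v _ => trivial)
    rwa [finrank_top, top_inf_eq] at h1
  -- the element of order 3
  have Fw : 2 * finrank K (E (ρ z) (η ^ 1)) ≤ finrank K (E (ρ w) 1) := by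
    have h1 := finrank_E_ge hη (by norm_num) (z7 ρ) (X := ρ w) (s := 3) (r := 2) (μ := 1)
      (by rw [← map_pow, w_pow, map_one]) (by norm_num) (one_pow _) (by rw [← map_pow]; exact rel_of ρ zw)
      (a₁ := 1) (a₂ := 3) (by norm_num) (by norm_num) (by decide) (by decide) (by decide) (by decide)
    rw [dims_z ρ hη 3 (by norm_num) (by norm_num)] at h1
    omega
  -- (2,3,7)
  have S7 := scott_J ρ hirr hn (a := A7) (b := w) (fun M ha hb k => gen7 ha hb k)
  rw [← conj_E ρ bt7 1, ← conj_E ρ cz7 1] at S7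
  have S11 := scott_J ρ hirr hn (a := A11) (b := w) (fun M ha hb k => gen11 ha hb k)
  rw [← conj_E ρ bt11 1, ← conj_E ρ cy11 1] at S11
  have S5 := scott_J ρ hirr hn (a := A5) (b := x5) (fun M ha hb k => gen5 ha hb k)
  rw [← conj_E ρ bt5 1, ← conj_E ρ cx5 1] at S5
  have hn12 : finrank K V = 12 := by (clear * - h12 py sy sz Ft Fw S7; omega)
  have ht6 : finrank K (E (ρ t) 1) = 6 := by omega
  -- the element of order 5
  have hx5 : ρ x5 ^ 5 = 1 := by rw [← map_pow, x5_pow, map_one]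
  have ge2 : ∀ j : ℕ, 2 ≤ finrank K (E (ρ x5) (l ^ j)) := by
    intro j
    have h1 := finrank_E_ge hζ (by norm_num) (y11 ρ) (X := ρ x5) (s := 5) (r := 4) (μ := l ^ j)
      hx5 (by norm_num) (by rw [← pow_mul, mul_comm, pow_mul, hl.pow_eq_one, one_pow])
      (by rw [← map_pow]; exact rel_of ρ yx5)
      (a₁ := 1) (a₂ := 2) (by norm_num) (by norm_num) (by decide) (by decide) (by decide) (by decide)
    rw [dims_y ρ hζ 2 (by norm_num) (by norm_num)] at h1
    omega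
  have sx : finrank K V = finrank K (E (ρ x5) (l ^ 0)) + finrank K (E (ρ x5) (l ^ 1)) +
      finrank K (E (ρ x5) (l ^ 2)) + finrank K (E (ρ x5) (l ^ 3)) + finrank K (E (ρ x5) (l ^ 4)) := by
    rw [finrank_top_eq_sum hl (by norm_num) hx5, Fin.sum_univ_five]
    rfl
  have st : finrank K (E (ρ t) 1) = finrank K (E (ρ t) 1 ⊓ E (ρ x5) (l ^ 0) : Submodule K V) +
      finrank K (E (ρ t) 1 ⊓ E (ρ x5) (l ^ 1) : Submodule K V) +
      finrank K (E (ρ t) 1 ⊓ E (ρ x5) (l ^ 2) : Submodule K V) +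
      finrank K (E (ρ t) 1 ⊓ E (ρ x5) (l ^ 3) : Submodule K V) +
      finrank K (E (ρ t) 1 ⊓ E (ρ x5) (l ^ 4) : Submodule K V) := by
    rw [finrank_eq_sum hl (by norm_num) hx5 (E (ρ t) 1), Fin.sum_univ_five]
    · rfl
    · intro v hv
      rw [mem_E1] at hv ⊢
      rw [mul_app, t_x5, ← mul_app, hv]
  have hh : ∀ j : ℕ, finrank K (E (ρ x5) (l ^ j)) ≤
      2 * finrank K (E (ρ t) 1 ⊓ E (ρ x5) (l ^ j) : Submodule K V) := by
    intro j
    have h1 := half h2 ht (E (ρ x5) (l ^ j)) (by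
      intro v hv
      rw [mem_E] at hv ⊢
      rw [mul_app, ← t_x5, ← mul_app, hv, map_smul])
    rwa [inf_comm] at h1
  have hreal : ∀ i j : ℕ, i * 4 % 5 = j → finrank K (E (ρ x5) (l ^ i)) ≤ finrank K (E (ρ x5) (l ^ j)) := by
    intro i j hij
    have h1 := finrank_E_le (Y := ρ x5) (X := ρ h5) (r := 4) (X' := ρ h5⁻¹)
      (by rw [← map_pow]; exact rel_of ρ x5h) (inv_mul' ρ h5) (l ^ i)
    rw [← pow_mul] at h1
    have h2 : l ^ (i * 4) = l ^ j := by
      rw [← hij]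
      conv_lhs => rw [← Nat.div_add_mod (i * 4) 5, pow_add, pow_mul, hl.pow_eq_one, one_pow, one_mul]
    rwa [h2] at h1
  have r1 := hreal 1 4 rfl
  have r2 := hreal 2 3 rfl
  have r3 := hreal 3 2 rfl
  have r4 := hreal 4 1 rfl
  have g0 := ge2 0
  have g1 := ge2 1
  have g2 := ge2 2
  have g3 := ge2 3
  have g4 := ge2 4
  have h0 := hh 0
  have h1' := hh 1
  have h2' := hh 2
  have h3' := hh 3
  have h4' := hh 4
  have hx4 : finrank K (E (ρ x5) (l ^ 0)) = 4 := by (clear * - hn12 ht6 sx st r1 r2 r3 r4 g0 g1 g2 h0 h1' h2' h3' h4'; omega)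
  rw [pow_zero] at hx4
  have hx44 : finrank K (E (ρ x5) 1) ≤ finrank K (E (ρ (x5 ^ 2)) 1) := by
    refine Submodule.finrank_mono fun v hv => ?_
    rw [mem_E1] at hv ⊢
    rw [pow_two, ← mul_app, hv, hv]
  (clear * - S5 hn12 ht6 hx4 hx44; omega)

/-! ### odd characteristic -/

omit hirr hn

/-- on `[V, y]` the element `y - y⁻¹` swaps the eigenspaces of `t` -/
theorem low_odd (h2 : (2 : K) ≠ 0) (h11 : ((11 : ℕ) : K) ≠ 0) :
    finrank K V ≤ finrank K (E (ρ y) 1) + 2 * finrank K (E (ρ t) (-1)) := by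
  have ht : ρ t * ρ t = 1 := by rw [← map_mul, t_sq, map_one]
  have hk := LinearMap.finrank_range_add_finrank_ker (ρ y - 1)
  have hk2 : LinearMap.ker (ρ y - 1) = E (ρ y) 1 := by
    ext v
    rw [mem_E1, LinearMap.mem_ker, LinearMap.sub_apply, Module.End.one_apply, sub_eq_zero]
  rw [hk2] at hk
  have e11 : ∀ v, ρ (y ^ 10) (ρ y v) = v := by
    intro v
    rw [mul_app, ← pow_succ, y_pow, map_one, Module.End.one_apply]
  have e11' : ∀ v, ρ y (ρ (y ^ 10) v) = v := by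
    intro v
    rw [mul_app, ← pow_succ', y_pow, map_one, Module.End.one_apply]
  have et : ∀ v, ρ t (ρ y v) = ρ (y ^ 10) (ρ t v) := by
    intro v
    rw [mul_app, mul_app, ty]
  have et' : ∀ v, ρ t (ρ (y ^ 10) v) = ρ y (ρ t v) := by
    intro v
    rw [mul_app, mul_app, ty']
  set U := LinearMap.range (ρ y - 1) with hU
  have hUm : ∀ v, ρ y v - v ∈ U := fun v => ⟨v, by rw [LinearMap.sub_apply, Module.End.one_apply]⟩
  have hUe : ∀ u ∈ U, ∃ v, u = ρ y v - v := by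
    rintro _ ⟨v, rfl⟩
    exact ⟨v, by rw [LinearMap.sub_apply, Module.End.one_apply]⟩
  have hUt : ∀ u ∈ U, ρ t u ∈ U := by
    intro u hu
    obtain ⟨v, rfl⟩ := hUe u hu
    have h1 := hUm (-ρ (y ^ 10) (ρ t v))
    rw [map_neg, e11'] at h1
    rw [map_sub, et]
    have h3 : ρ (y ^ 10) (ρ t v) - ρ t v = -ρ t v - -ρ (y ^ 10) (ρ t v) := by abel
    rw [h3]
    exact h1
  have hUy : ∀ u ∈ U, ρ y u - ρ (y ^ 10) u ∈ U := by
    intro u hu
    obtain ⟨v, rfl⟩ := hUe u hu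
    rw [map_sub, map_sub, e11]
    have h1 := hUm (ρ y v + ρ (y ^ 10) v)
    rw [map_add, e11'] at h1
    have h3 : ρ y (ρ y v) - ρ y v - (v - ρ (y ^ 10) v) = ρ y (ρ y v) + v - (ρ y v + ρ (y ^ 10) v) - (v - ρ (y ^ 10) v) -
      (v - ρ (y ^ 10) v) := by abel
    have h4 : v - ρ (y ^ 10) v ∈ U := by
      have h5 := hUm (ρ (y ^ 10) v)
      rwa [e11'] at h5
    rw [h3]
    exact U.sub_mem (U.sub_mem h1 h4) h4
  have hU0 : ∀ u ∈ U, ρ y u = u → u = 0 := by
    intro u hu h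
    obtain ⟨v, rfl⟩ := hUe u hu
    have h1 := av_apply_of_fix h11 h
    have h3 := av_apply_mem (y11 ρ) v
    have h4 : (av 11 (ρ y)) (ρ y v) = ρ y (av 11 (ρ y) v) :=
      (LinearMap.congr_fun (comm_av (m := 11) (Commute.refl (ρ y))) v).symm
    rw [map_sub, h4, h3, sub_self] at h1
    exact h1.symm
  have hle : finrank K (U ⊓ E (ρ t) 1 : Submodule K V) ≤ finrank K (U ⊓ E (ρ t) (-1) : Submodule K V) := by
    refine finrank_le_of_inj (ρ y - ρ (y ^ 10)) ?_ ?_
    · rintro u ⟨hu, hut⟩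
      rw [SetLike.mem_coe, mem_E1] at hut
      refine ⟨hUy u hu, ?_⟩
      rw [SetLike.mem_coe, mem_E, LinearMap.sub_apply, map_sub, et, et', hut]
      module
    · rintro u ⟨hu, -⟩ h
      rw [LinearMap.sub_apply, sub_eq_zero] at h
      have h1 : ρ y (ρ y u) = u := by
        rw [h, e11']
      refine hU0 u hu ?_
      have h3 : ρ y (ρ y (ρ y (ρ y (ρ y (ρ y (ρ y (ρ y (ρ y (ρ y (ρ y u)))))))))) = u := by
        rw [← Module.End.mul_apply, ← Module.End.mul_apply, ← Module.End.mul_apply, ← Module.End.mul_apply,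
          ← Module.End.mul_apply, ← Module.End.mul_apply, ← Module.End.mul_apply, ← Module.End.mul_apply,
          ← Module.End.mul_apply, ← Module.End.mul_apply]
        exact LinearMap.congr_fun (y11 ρ) u
      simp only [h1] at h3
      exact h3
  have hs := split h2 ht U hUt
  have hm : finrank K (U ⊓ E (ρ t) (-1) : Submodule K V) ≤ finrank K (E (ρ t) (-1)) :=
    Submodule.finrank_mono inf_le_right
  omega

omit [FiniteDimensional K V] in
theorem E_mul {A B : End K V} (hA : A * A = 1) {a c : K} (ha : a * a = 1) :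
    E A a ⊓ E (A * B) c = E A a ⊓ E B (a * c) := by
  have hAA : ∀ v, A (A v) = v := fun v => LinearMap.congr_fun hA v
  ext v
  rw [Submodule.mem_inf, Submodule.mem_inf, mem_E, mem_E, mem_E, Module.End.mul_apply]
  constructor
  · rintro ⟨h1, h3⟩
    refine ⟨h1, ?_⟩
    have h4 := congrArg A h3
    rw [hAA, map_smul, h1, smul_smul, mul_comm] at h4
    exact h4
  · rintro ⟨h1, h3⟩
    refine ⟨h1, ?_⟩
    rw [h3, map_smul, h1, smul_smul]
    congr 1
    linear_combination c * ha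

set_option maxHeartbeats 2000000 in
/-- the seven involutions of an elementary abelian group of order 8 -/
theorem high_odd (h2 : (2 : K) ≠ 0) (h12 : finrank K V ≤ 12) : finrank K (E (ρ t) (-1)) ≤ 4 := by
  have ht : ρ t * ρ t = 1 := by rw [← map_mul, t_sq, map_one]
  have hf : ρ f * ρ f = 1 := by rw [← map_mul, f_sq, map_one]
  have hg : ρ g * ρ g = 1 := by rw [← map_mul, g_sq, map_one]
  have c1 : ∀ {a b : J1}, a * b = b * a → ∀ (c : K) (v : V), v ∈ E (ρ a) c → ρ b v ∈ E (ρ a) c := by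
    intro a b h c v hv
    rw [mem_E] at hv ⊢
    rw [mul_app, h, ← mul_app, hv, map_smul]
  have cinf : ∀ {b : J1} {S T : Submodule K V}, (∀ v ∈ S, ρ b v ∈ S) → (∀ v ∈ T, ρ b v ∈ T) →
      ∀ v ∈ S ⊓ T, ρ b v ∈ S ⊓ T := fun hS hT v hv => ⟨hS v hv.1, hT v hv.2⟩
  set D := finrank K (E (ρ t) (-1)) with hD
  have d1 : finrank K (E (ρ f) (-1)) = D := conj_E ρ sf _
  have d2 : finrank K (E (ρ g) (-1)) = D := (conj_E ρ sg _).trans d1
  have d3 : finrank K (E (ρ (t * f)) (-1)) = D := (conj_E ρ st _).trans d2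
  have d4 : finrank K (E (ρ (f * g)) (-1)) = D := (conj_E ρ s_fg _).trans d3
  have d5 : finrank K (E (ρ (t * (f * g))) (-1)) = D := (conj_E ρ s_tfg _).trans d4
  have d6 : finrank K (E (ρ (t * g)) (-1)) = D := (conj_E ρ s_tg _).trans d5
  let r : K → K → K → ℕ := fun a b c => finrank K ((E (ρ t) a ⊓ E (ρ f) b) ⊓ E (ρ g) c : Submodule K V)
  -- splitting
  have q : ∀ a b : K, finrank K (E (ρ t) a ⊓ E (ρ f) b : Submodule K V) = r a b 1 + r a b (-1) := fun a b =>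
    split h2 hg _ (cinf (c1 tg a) (c1 fg b))
  have s0 : finrank K V = finrank K (E (ρ t) 1) + finrank K (E (ρ t) (-1)) := by
    have h1 := split h2 ht ⊤ (fun v _ => trivial)
    rwa [finrank_top, top_inf_eq, top_inf_eq] at h1
  have s1 : ∀ a : K, finrank K (E (ρ t) a) = finrank K (E (ρ t) a ⊓ E (ρ f) 1 : Submodule K V) +
      finrank K (E (ρ t) a ⊓ E (ρ f) (-1) : Submodule K V) := fun a => split h2 hf _ (c1 tf a)
  have s2 : finrank K (E (ρ f) (-1)) = finrank K (E (ρ t) 1 ⊓ E (ρ f) (-1) : Submodule K V) +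
      finrank K (E (ρ t) (-1) ⊓ E (ρ f) (-1) : Submodule K V) := by
    have h1 := split h2 ht (E (ρ f) (-1)) (c1 tf.symm (-1))
    rwa [inf_comm, inf_comm (E (ρ f) (-1)) (E (ρ t) (-1))] at h1
  have mm : (-1 : K) * -1 = 1 := by norm_num
  have om : (1 : K) * -1 = -1 := by norm_num
  have oo : (1 : K) * 1 = 1 := by norm_num
  have s3 : finrank K (E (ρ (t * f)) (-1)) = finrank K (E (ρ t) 1 ⊓ E (ρ f) (-1) : Submodule K V) +
      finrank K (E (ρ t) (-1) ⊓ E (ρ f) 1 : Submodule K V) := by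
    have h1 := split h2 ht (E (ρ (t * f)) (-1)) (c1 (show (t * f) * t = t * (t * f) by
      rw [mul_assoc, ← tf]) (-1))
    rw [inf_comm, inf_comm (E (ρ (t * f)) (-1)) (E (ρ t) (-1)), map_mul, E_mul ht oo, E_mul ht mm, om, mm] at h1
    rw [map_mul]
    exact h1
  -- `g`: split by `t` and `f`
  have q2 : ∀ (S : Submodule K V), (∀ v ∈ S, ρ f v ∈ S) → ∀ a : K, finrank K (E (ρ t) a ⊓ S : Submodule K V) =
      finrank K ((E (ρ t) a ⊓ E (ρ f) 1) ⊓ S : Submodule K V) +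
      finrank K ((E (ρ t) a ⊓ E (ρ f) (-1)) ⊓ S : Submodule K V) := by
    intro S hS a
    have h1 := split h2 hf (E (ρ t) a ⊓ S) (cinf (c1 tf a) hS)
    rw [inf_right_comm, inf_right_comm (E (ρ t) a) S] at h1
    exact h1
  have q3 : ∀ (S : Submodule K V), (∀ v ∈ S, ρ t v ∈ S) → (∀ v ∈ S, ρ f v ∈ S) → finrank K S =
      (finrank K ((E (ρ t) 1 ⊓ E (ρ f) 1) ⊓ S : Submodule K V) +
      finrank K ((E (ρ t) 1 ⊓ E (ρ f) (-1)) ⊓ S : Submodule K V)) +
      (finrank K ((E (ρ t) (-1) ⊓ E (ρ f) 1) ⊓ S : Submodule K V) +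
      finrank K ((E (ρ t) (-1) ⊓ E (ρ f) (-1)) ⊓ S : Submodule K V)) := by
    intro S hSt hSf
    have h1 := split h2 ht S hSt
    rw [inf_comm, inf_comm S (E (ρ t) (-1)), q2 S hSf 1, q2 S hSf (-1)] at h1
    exact h1
  have g1 : finrank K (E (ρ g) (-1)) = (r 1 1 (-1) + r 1 (-1) (-1)) + (r (-1) 1 (-1) + r (-1) (-1) (-1)) :=
    q3 _ (c1 tg.symm (-1)) (c1 fg.symm (-1))
  -- `t g`
  have tgm : ∀ a : K, a * a = 1 → ∀ b : K, (E (ρ t) a ⊓ E (ρ f) b) ⊓ E (ρ (t * g)) (-1) =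
      (E (ρ t) a ⊓ E (ρ f) b) ⊓ E (ρ g) (a * -1) := by
    intro a ha b
    rw [inf_right_comm, map_mul, E_mul ht ha, inf_right_comm]
  have fgm : ∀ a : K, ∀ b c : K, b * b = 1 → (E (ρ t) a ⊓ E (ρ f) b) ⊓ E (ρ (f * g)) c =
      (E (ρ t) a ⊓ E (ρ f) b) ⊓ E (ρ g) (b * c) := by
    intro a b c hb
    rw [inf_assoc, map_mul, E_mul hf hb, ← inf_assoc]
  have tfgm : ∀ a : K, a * a = 1 → ∀ b : K, b * b = 1 → (E (ρ t) a ⊓ E (ρ f) b) ⊓ E (ρ (t * (f * g))) (-1) =
      (E (ρ t) a ⊓ E (ρ f) b) ⊓ E (ρ g) (b * (a * -1)) := by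
    intro a ha b hb
    rw [inf_right_comm, map_mul, E_mul ht ha, inf_right_comm, fgm a b _ hb]
  have mo : (-1 : K) * 1 = -1 := by norm_num
  have g2 : finrank K (E (ρ (t * g)) (-1)) = (r 1 1 (-1) + r 1 (-1) (-1)) + (r (-1) 1 1 + r (-1) (-1) 1) := by
    rw [q3 _ (c1 (show (t * g) * t = t * (t * g) by rw [mul_assoc, ← tg]) (-1))
      (c1 (show (t * g) * f = f * (t * g) by rw [mul_assoc, ← fg, ← mul_assoc, tf, mul_assoc]) (-1)),
      tgm 1 oo, tgm 1 oo, tgm _ mm, tgm _ mm, om, mm]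
  have g3 : finrank K (E (ρ (f * g)) (-1)) = (r 1 1 (-1) + r 1 (-1) 1) + (r (-1) 1 (-1) + r (-1) (-1) 1) := by
    rw [q3 _ (c1 (show (f * g) * t = t * (f * g) by rw [mul_assoc, ← tg, ← mul_assoc, ← tf, mul_assoc]) (-1))
      (c1 (show (f * g) * f = f * (f * g) by rw [mul_assoc, ← fg]) (-1)),
      fgm _ _ _ oo, fgm _ _ _ mm, fgm _ _ _ oo, fgm _ _ _ mm, om, mm]
  have g4 : finrank K (E (ρ (t * (f * g))) (-1)) = (r 1 1 (-1) + r 1 (-1) 1) + (r (-1) 1 1 + r (-1) (-1) (-1)) := by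
    rw [q3 _ (c1 (show (t * (f * g)) * t = t * (t * (f * g)) by
        rw [mul_assoc t, mul_assoc f, ← tg, ← mul_assoc f, ← tf, mul_assoc]) (-1))
      (c1 (show (t * (f * g)) * f = f * (t * (f * g)) by
        rw [mul_assoc t, mul_assoc f, ← fg, ← mul_assoc f t, ← tf, mul_assoc]) (-1)),
      tfgm _ oo _ oo, tfgm _ oo _ mm, tfgm _ mm _ oo, tfgm _ mm _ mm, om, om, mm, oo, mo]
  have a1 := q 1 1
  have a2 := q 1 (-1)
  have a3 := q (-1) 1
  have a4 := q (-1) (-1)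
  have b1 := s1 1
  have b2 := s1 (-1)
  (clear * - h12 d1 d2 d3 d4 d5 d6 s0 s2 s3 g1 g2 g3 g4 a1 a2 a3 a4 b1 b2; omega)

include hirr hn

theorem no_odd (h2 : (2 : K) ≠ 0) (h11 : ((11 : ℕ) : K) ≠ 0) {ζ : K} (hζ : IsPrimitiveRoot ζ 11)
    (h12 : finrank K V ≤ 12) : False := by
  have py := pos_y ρ hirr hn hζ
  have sy := sum_y ρ hζ
  have hl := low_odd ρ h2 h11
  have hh := high_odd ρ h2 h12
  omega

end Cfsg.Agent.H659.J1
end

-- part: H659/J1Not11
section
/-!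
# Cores with simple group `J₁` in degree ≤ 12 live in characteristic 11

`J1.scalars_eq_bot` : `Core P`, `Soc P ≃* J₁` ⟹ `P` has no scalars; `J1.mulEquiv` : then `P ≃* J₁`;
`J1.not_core` : `Core P`, `Soc P ≃* J₁`, characteristic `p ≠ 11` ⟹ the degree is at least 13.
-/

set_option autoImplicit false

namespace Cfsg.Agent.H659.J1

open Module Cfsg Cfsg.Geo Matrix Cfsg.Agent.H915.LD Cfsg.Agent.H659.Ac
open Cfsg.Spor (J1)

theorem exists_root (k : Type*) [Field k] [IsAlgClosed k] (m : ℕ) (hm : (m : k) ≠ 0) : ∃ ζ : k, IsPrimitiveRoot ζ m := by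
  have : NeZero (m : k) := ⟨hm⟩
  have h : HasEnoughRootsOfUnity k m := inferInstance
  exact HasEnoughRootsOfUnity.exists_primitiveRoot k m

section

variable {K : Type*} [Field K] [IsAlgClosed K] {V : Type*} [AddCommGroup V] [Module K V] [FiniteDimensional K V]
  (ρ : J1 →* Module.End K V)

/-- **`J₁` has no representation of degree 2, …, 12 in characteristic ≠ 11** -/
theorem no_rep (hirr : ∀ L : Submodule K V, (∀ k, ∀ v ∈ L, ρ k v ∈ L) → L = ⊥ ∨ L = ⊤) (hn : 2 ≤ finrank K V)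
    (h12 : finrank K V ≤ 12) (h11 : ((11 : ℕ) : K) ≠ 0) : False := by
  obtain ⟨ζ, hζ⟩ := exists_root K 11 h11
  by_cases h2 : (2 : K) = 0
  · have odd : ∀ k : ℕ, ((2 * k + 1 : ℕ) : K) ≠ 0 := by
      intro k
      push_cast
      rw [h2, zero_mul, zero_add]
      exact one_ne_zero
    obtain ⟨η, hη⟩ := exists_root K 7 (odd 3)
    obtain ⟨l, hl⟩ := exists_root K 5 (odd 2)
    exact no_two ρ hirr hn h2 hζ hη hl h12
  · exact no_odd ρ hirr hn h2 h11 hζ h12

end

variable {ι : Type} [Fintype ι] [DecidableEq ι] {F : Type*} [Field F] {P : Subgroup (GL ι F)}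

/-- the isomorphism of a core of type `J₁` with `J₁` -/
theorem exists_equiv (hC : Core P) (e : Soc P ≃* J1) :
    (scalars ι F).subgroupOf P = ⊥ ∧ ∃ E : P ≃* J1, ∀ k : P, E k = e (toSoc P k) := by
  have : Finite J1 := H413.JOneLocal.fin_J1
  have hA := S2039.result
  obtain ⟨φ, hφ, h⟩ := H1.RealCover.cover_hom hC e (A := Multiplicative (ZMod 1)) hA (MonoidHom.id J1)
    ⟨Function.surjective_id, by rw [MonoidHom.ker_id]; exact bot_le, by rw [MonoidHom.ker_id]; exact bot_le⟩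
    (by rw [MonoidHom.ker_id, Subgroup.card_bot, Nat.card_congr (Multiplicative.toAdd (α := ZMod 1)), Nat.card_zmod])
  have hinj : Function.Injective (H1.RealCover.pj P e) := by
    intro a b hab
    obtain ⟨a', rfl⟩ := hφ a
    obtain ⟨b', rfl⟩ := hφ b
    rw [h, h] at hab
    have : a' = b' := hab
    rw [this]
  refine ⟨?_, ?_⟩
  · rw [← H1.RealCover.ker_pj e, MonoidHom.ker_eq_bot_iff]
    exact hinj
  · exact ⟨MulEquiv.ofBijective (H1.RealCover.pj P e) ⟨hinj, H1.RealCover.pj_surjective e⟩, fun k => rfl⟩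

/-- **Cores of type `J₁` in characteristic ≠ 11 have degree ≥ 13.** -/
theorem not_core (hC : Core P) (h : Spor.IsoJ1 (Soc P)) (p : ℕ) [hp : Fact p.Prime] [CharP F p] (h11 : p ≠ 11)
    (hn : Fintype.card ι ≤ 12) : False := by
  obtain ⟨e⟩ := h
  obtain ⟨-, E, -⟩ := exists_equiv hC e
  have hn2 := hC.two_le
  let φ' : J1 →* GL ι F := P.subtype.comp E.symm.toMonoidHom
  have hrange : φ'.range = P := by
    ext g
    constructor
    · rintro ⟨w, rfl⟩
      exact (E.symm w).2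
    · intro hg
      refine ⟨E ⟨g, hg⟩, ?_⟩
      change ((E.symm (E ⟨g, hg⟩) : P) : GL ι F) = g
      rw [MulEquiv.symm_apply_apply]
  have hs := H920.span_eq_top hC.absIrred
  let A := AlgebraicClosure F
  have hinj : Function.Injective (algebraMap F A) := (algebraMap F A).injective
  have hne : ((11 : ℕ) : A) ≠ 0 := by
    intro h0
    have h4 : ((11 : ℕ) : F) = 0 := by
      apply hinj
      rw [map_natCast, map_zero, h0]
    rw [CharP.cast_eq_zero_iff F p] at h4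
    exact h11 ((Nat.prime_dvd_prime_iff_eq hp.out (by norm_num)).1 h4)
  have hfr : Module.finrank A (ι → A) = Fintype.card ι := Module.finrank_fintype_fun_eq_card A
  exact no_rep (rp A φ') (rp_irr A φ' hrange hs) (by rw [hfr]; exact hn2) (by rw [hfr]; exact hn) hne

end Cfsg.Agent.H659.J1
end
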