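import Cfsg.Agent.H175.BdSp_m3
import Cfsg.Prelude.Def_GeometricClasses
import Cfsg.Prelude.Def_Classical
import Cfsg.Agent.ChevalleyStructure.B2Sp4
import Cfsg.Agent.LieClassical.FieldTransfer
import Cfsg.Agent.H906.Cover_m3
import Cfsg.Agent.LieRecognition.RankOneAbstract
import Cfsg.Agent.H906.U3Card
import Cfsg.Agent.H906.U3Def
import Cfsg.Agent.LieClassical.HermPerfect
import Cfsg.Agent.FastGrp
import Cfsg.Agent.Prune
set_option linter.all false

section
prune_inst 0xffa9f9bbbe7ddfdfff7e7fae9edffdffbb3fffa6dff9cbffe06bff8bdf5b92c9c52bad8beab2fe0e96421410f87b43fffee23fea6bd87ffffd1ff41ffbfe0ffdf7b50851968c340fbc0ff703f0778e7f3fffffffffffffffffffffffffffbeffbfffffffff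

-- part: H659/SevenU42Core
section
prune_inst 0x46060441822020000180514020000044800000200400000084007020a40c2620d402040049004141a8288c00801000000100010004000000400000000010020802942069308a104360089000000000000000000000000000000000000000000000000000
set_option linter.all false
open scoped Cfsg.Agent.FastGrp

-- part: H659/Triple
section
/-!
# Joint eigenspaces of three commuting operators of order 3

`A B C` commuting endomorphisms of a finite-dimensional space over an algebraically closed field in which `3 ≠ 0`, with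
`A³ = B³ = C³ = 1`; `E3 A B C ω (i, j, k)` is the joint eigenspace with eigenvalues `ω^i, ω^j, ω^k`.
-/

set_option autoImplicit false

namespace Cfsg.Agent.H659.Triple

open Module

variable {K : Type*} [Field K] {V : Type*} [AddCommGroup V] [Module K V]

/-- The joint eigenspace. -/
def E3 (A B C : Module.End K V) (ω : K) (t : Fin 3 × Fin 3 × Fin 3) : Submodule K V :=
  A.eigenspace (ω ^ t.1.val) ⊓ B.eigenspace (ω ^ t.2.1.val) ⊓ C.eigenspace (ω ^ t.2.2.val)

theorem mem_E3 {A B C : Module.End K V} {ω : K} {t : Fin 3 × Fin 3 × Fin 3} {v : V} :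
    v ∈ E3 A B C ω t ↔ A v = ω ^ t.1.val • v ∧ B v = ω ^ t.2.1.val • v ∧ C v = ω ^ t.2.2.val • v := by
  simp only [E3, Submodule.mem_inf, Module.End.mem_eigenspace_iff, and_assoc]

theorem exists_omega [IsAlgClosed K] (h3 : (3 : K) ≠ 0) : ∃ ω : K, ω ^ 2 + ω + 1 = 0 ∧ ω ≠ 1 ∧ ω ^ 3 = 1 := by
  obtain ⟨ω, hω⟩ := IsAlgClosed.exists_root (Polynomial.X ^ 2 + Polynomial.X + 1 : Polynomial K) (by
    have : (Polynomial.X ^ 2 + Polynomial.X + 1 : Polynomial K).degree = 2 := by compute_degree!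
    rw [this]; norm_num)
  have h : ω ^ 2 + ω + 1 = 0 := by simpa [Polynomial.IsRoot] using hω
  refine ⟨ω, h, ?_, ?_⟩
  · rintro rfl
    apply h3
    linear_combination h
  · linear_combination (ω - 1) * h

section Omega

variable {ω : K} (h : ω ^ 2 + ω + 1 = 0) (h1 : ω ≠ 1) (h3 : ω ^ 3 = 1)

include h3 in
theorem pow_add_fin (a b : Fin 3) : ω ^ (a + b).val = ω ^ a.val * ω ^ b.val := by
  fin_cases a <;> fin_cases b <;> simp <;>
    first | linear_combination (0 : K) * h3 | linear_combination (-1 : K) * h3 | linear_combination (-ω) * h3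

include h h1 h3 in
theorem pow_inj_fin {a b : Fin 3} (hab : ω ^ a.val = ω ^ b.val) : a = b := by
  have h0 : ω ≠ 0 := by
    rintro rfl
    norm_num at h3
  have h2 : ω ^ 2 ≠ 1 := by
    intro h2
    apply h1
    linear_combination h3 - ω * h2
  have h12 : ω ≠ ω ^ 2 := by
    intro h12
    apply h1
    have : ω * (ω - 1) = 0 := by linear_combination -h12
    rcases mul_eq_zero.1 this with h4 | h4
    · exact absurd h4 h0
    · exact sub_eq_zero.1 h4
  fin_cases a <;> fin_cases b <;> simp at hab ⊢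
  · exact h1 hab.symm
  · exact h2 hab.symm
  · exact h1 hab
  · exact h12 hab
  · rcases hab with hab | hab
    · exact h1 hab
    · exact h2 (by rw [hab]; ring)
  · exact h12 hab.symm

include h h3 in
theorem exists_pow {μ : K} (hμ : μ ^ 3 = 1) : ∃ a : Fin 3, μ = ω ^ a.val := by
  have h4 : (μ - 1) * ((μ - ω) * (μ - ω ^ 2)) = 0 := by
    linear_combination hμ - (μ - 1) * μ * h + (μ - 1) * h3
  rcases mul_eq_zero.1 h4 with h5 | h5
  · exact ⟨0, by simpa using sub_eq_zero.1 h5⟩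
  rcases mul_eq_zero.1 h5 with h6 | h6
  · exact ⟨1, by simpa using sub_eq_zero.1 h6⟩
  · exact ⟨2, by simpa using sub_eq_zero.1 h6⟩

end Omega

section Dec

variable [IsAlgClosed K] [FiniteDimensional K V] {A B C : Module.End K V} (hAB : A * B = B * A) (hAC : A * C = C * A)
  (hBC : B * C = C * B) (hA : A ^ 3 = 1) (hB : B ^ 3 = 1) (hC : C ^ 3 = 1) (h3 : (3 : K) ≠ 0) {ω : K}
  (h : ω ^ 2 + ω + 1 = 0) (h1 : ω ≠ 1) (hω : ω ^ 3 = 1)

/-- The eigenvalue function of a triple. -/
def chi (ω : K) (t : Fin 3 × Fin 3 × Fin 3) : Fin 3 → K := ![ω ^ t.1.val, ω ^ t.2.1.val, ω ^ t.2.2.val]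

omit [IsAlgClosed K] in
include hA hB hC h3 in
theorem E3_eq (χ : Fin 3 → K) : (⨅ i, (![A, B, C] i).maxGenEigenspace (χ i)) =
    A.eigenspace (χ 0) ⊓ B.eigenspace (χ 1) ⊓ C.eigenspace (χ 2) := by
  have e1 := H912.Bd.maxGen_eq (K := K) (N := 3) (by exact_mod_cast h3) hA
  have e2 := H912.Bd.maxGen_eq (K := K) (N := 3) (by exact_mod_cast h3) hB
  have e3 := H912.Bd.maxGen_eq (K := K) (N := 3) (by exact_mod_cast h3) hC
  rw [← e1, ← e2, ← e3]
  apply le_antisymm
  · refine le_inf (le_inf ?_ ?_) ?_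
    · exact iInf_le (fun i => (![A, B, C] i).maxGenEigenspace (χ i)) 0
    · exact iInf_le (fun i => (![A, B, C] i).maxGenEigenspace (χ i)) 1
    · exact iInf_le (fun i => (![A, B, C] i).maxGenEigenspace (χ i)) 2
  · refine le_iInf fun i => ?_
    fin_cases i
    · exact inf_le_left.trans inf_le_left
    · exact inf_le_left.trans inf_le_right
    · exact inf_le_right

omit [IsAlgClosed K] [FiniteDimensional K V] in
include hAB hAC hBC in
theorem comm3 (i j : Fin 3) : Commute (![A, B, C] i) (![A, B, C] j) := by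
  fin_cases i <;> fin_cases j
  · exact Commute.refl _
  · exact hAB
  · exact hAC
  · exact hAB.symm
  · exact Commute.refl _
  · exact hBC
  · exact hAC.symm
  · exact hBC.symm
  · exact Commute.refl _

omit [IsAlgClosed K] in
include h h1 hω in
theorem chi_injective : Function.Injective (chi ω) := by
  intro s t hst
  have e0 := congrFun hst 0
  have e1 := congrFun hst 1
  have e2 := congrFun hst 2
  exact Prod.ext (pow_inj_fin h h1 hω e0) (Prod.ext (pow_inj_fin h h1 hω e1) (pow_inj_fin h h1 hω e2))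

omit [IsAlgClosed K] in
include hAB hAC hBC hA hB hC h3 h h1 hω in
theorem indep_E3 : iSupIndep (E3 A B C ω) := by
  have h4 := Module.End.independent_iInf_maxGenEigenspace_of_forall_mapsTo (![A, B, C]) (by
    intro i j φ
    exact Module.End.mapsTo_maxGenEigenspace_of_comm (comm3 hAB hAC hBC j i) φ)
  have h5 := h4.comp (chi_injective h h1 hω)
  have h6 : ((fun χ : Fin 3 → K => ⨅ i, (![A, B, C] i).maxGenEigenspace (χ i)) ∘ chi ω) = E3 A B C ω := by
    funext t
    exact E3_eq hA hB hC h3 (chi ω t)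
  rwa [h6] at h5

omit [IsAlgClosed K] [FiniteDimensional K V] in
theorem pow_eigen {T : Module.End K V} (hT : T ^ 3 = 1) {μ : K} {v : V} (hv : v ≠ 0) (hTv : T v = μ • v) : μ ^ 3 = 1 := by
  have e : (T ^ 3) v = μ ^ 3 • v := by
    rw [pow_succ, pow_succ, pow_one, Module.End.mul_apply, Module.End.mul_apply, hTv, map_smul, hTv, map_smul, map_smul,
      hTv, smul_smul, smul_smul]
    congr 1
    ring
  rw [hT, Module.End.one_apply] at e
  have : (μ ^ 3 - 1) • v = 0 := by rw [sub_smul, ← e, one_smul, sub_self]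
  exact sub_eq_zero.1 ((smul_eq_zero.1 this).resolve_right hv)

include hAB hAC hBC hA hB hC h3 h hω in
theorem iSup_E3 : ⨆ t, E3 A B C ω t = ⊤ := by
  have h4 := Module.End.iSup_iInf_maxGenEigenspace_eq_top_of_iSup_maxGenEigenspace_eq_top_of_commute (![A, B, C])
    (fun i j _ => comm3 hAB hAC hBC i j) (fun i => Module.End.iSup_maxGenEigenspace_eq_top _)
  rw [eq_top_iff, ← h4]
  refine iSup_le fun χ => ?_
  rw [E3_eq hA hB hC h3 χ]
  by_cases hbot : A.eigenspace (χ 0) ⊓ B.eigenspace (χ 1) ⊓ C.eigenspace (χ 2) = ⊥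
  · rw [hbot]; exact bot_le
  · obtain ⟨v, hv, hv0⟩ := Submodule.exists_mem_ne_zero_of_ne_bot hbot
    obtain ⟨⟨hvA, hvB⟩, hvC⟩ := hv
    obtain ⟨a, ha⟩ := exists_pow h hω (pow_eigen hA hv0 (Module.End.mem_eigenspace_iff.1 hvA))
    obtain ⟨b, hb⟩ := exists_pow h hω (pow_eigen hB hv0 (Module.End.mem_eigenspace_iff.1 hvB))
    obtain ⟨c, hc⟩ := exists_pow h hω (pow_eigen hC hv0 (Module.End.mem_eigenspace_iff.1 hvC))
    rw [ha, hb, hc]
    exact le_iSup (E3 A B C ω) (a, b, c)

include hAB hAC hBC hA hB hC h3 h h1 hω in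
theorem sum_E3 : ∑ t, finrank K (E3 A B C ω t) = finrank K V := by
  classical
  have hi := DirectSum.isInternal_submodule_of_iSupIndep_of_iSup_eq_top
    (indep_E3 hAB hAC hBC hA hB hC h3 h h1 hω) (iSup_E3 hAB hAC hBC hA hB hC h3 h hω)
  have e := (LinearEquiv.ofBijective (DirectSum.coeLinearMap (E3 A B C ω)) hi).finrank_eq
  rw [← e, Module.finrank_directSum]

omit [IsAlgClosed K] [FiniteDimensional K V] in
include h hω in
/-- An operator of order dividing 3 without non-trivial eigenvectors in an invariant subspace fixes it pointwise. -/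
theorem fix_of_no_eigen {T : Module.End K V} (hT : T ^ 3 = 1) (D : Submodule K V) (hTD : ∀ v ∈ D, T v ∈ D)
    (hno : ∀ a : Fin 3, a ≠ 0 → ∀ v ∈ D, T v = ω ^ a.val • v → v = 0) : ∀ v ∈ D, T v = v := by
  intro v hv
  have hT3 : T (T (T v)) = v := by
    have := congrArg (fun f : Module.End K V => f v) hT
    simpa [pow_succ, Module.End.mul_apply] using this
  set u := T v - v with hu
  have huD : u ∈ D := D.sub_mem (hTD v hv) hv
  have hTu : T u ∈ D := hTD u huD
  have e1 : T (T u) + T u + u = 0 := by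
    rw [hu, map_sub, map_sub, hT3]
    abel
  have e2 : T u - ω ^ 2 • u = 0 := by
    refine hno 1 (by decide) _ (D.sub_mem hTu (D.smul_mem _ huD)) ?_
    rw [map_sub, map_smul]
    have e3 : T (T u) = -T u - u := by
      rw [eq_sub_iff_add_eq, eq_neg_iff_add_eq_zero]
      rw [← e1]; abel
    rw [e3]
    have c1 : ω ^ (1 : Fin 3).val • (T u - ω ^ 2 • u) = ω • T u - (ω ^ 3) • u := by
      change ω ^ 1 • _ = _
      rw [pow_one, smul_sub, smul_smul]
      congr 2
      ring
    rw [c1, hω, one_smul]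
    have c2 : ω ^ 2 = -ω - 1 := by linear_combination h
    rw [c2]
    module
  have e4 : u = 0 := hno 2 (by decide) u huD (sub_eq_zero.1 e2)
  exact sub_eq_zero.1 e4

end Dec

end Cfsg.Agent.H659.Triple
end

-- part: H659/SevenU42Core
section
/-!
# A 7-dimensional representation of `Sp₄(3)` in characteristic ≠ 3 has a fixed vector: the abstract part

The hypotheses are relations between elements of `Sp₄(3)`.
-/

set_option autoImplicit false

namespace Cfsg.Agent.H659.SevenU42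

open Module Cfsg.Agent.H659.Triple

variable {K : Type*} [Field K] {V : Type*} [AddCommGroup V] [Module K V] [FiniteDimensional K V] {L : Type*} [Group L]
  (ρ : L →* Module.End K V)

theorem finrank_le_of_maps (g : L) {P Q : Submodule K V} (h : ∀ v ∈ P, ρ g v ∈ Q) : finrank K P ≤ finrank K Q := by
  have h1 : P.map (ρ g) ≤ Q := by
    rintro _ ⟨v, hv, rfl⟩
    exact h v hv
  refine le_trans (le_of_eq ?_) (Submodule.finrank_mono h1)
  exact (Submodule.equivMapOfInjective (ρ g) (H912.Bd.rho_injective ρ g) _).finrank_eq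

omit [FiniteDimensional K V] in
/-- Independent subspaces of `D`. -/
theorem sum_finrank_le_of_le [FiniteDimensional K V] {ι : Type*} [Fintype ι] {p : ι → Submodule K V} (hp : iSupIndep p)
    (D : Submodule K V) (hD : ∀ i, p i ≤ D) : ∑ i, finrank K (p i) ≤ finrank K D := by
  classical
  have h1 := hp.dfinsupp_lsum_injective
  have hmem : ∀ f : Π₀ i, p i, DFinsupp.lsum ℕ (fun i => (p i).subtype) f ∈ D := by
    intro f
    rw [DFinsupp.lsum_apply_apply, DFinsupp.sumAddHom_apply]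
    exact D.sum_mem fun i _ => hD i (f i).2
  have h2 := LinearMap.finrank_le_finrank_of_injective
    (f := (DFinsupp.lsum ℕ (fun i => (p i).subtype)).codRestrict D hmem) (by
      intro f g hfg
      apply h1
      exact congrArg Subtype.val hfg)
  have h3 : finrank K (Π₀ i, p i) = ∑ i, finrank K (p i) := Module.finrank_directSum K (fun i => ↥(p i))
  rw [← h3]
  exact h2

/-- The relations of `Sp₄(3)` used below. -/
structure Rel (z1 z2 x y s h n j : L) : Prop where
  z1_three : z1 ^ 3 = 1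
  z2_three : z2 ^ 3 = 1
  x_three : x ^ 3 = 1
  z1z2 : z1 * z2 = z2 * z1
  z1x : z1 * x = x * z1
  z2x : z2 * x = x * z2
  z1s : z1 * s = s * z2
  z2s : z2 * s = s * z1
  xs : x * s = s * x
  z1h : z1 * h = h * z1
  z2h : z2 * h = h * z2
  xh : x * h = h * (x * x)
  z1y : z1 * y = y * z1
  z2y : z2 * y = y * (z1 * z2 * (x * x))
  xy : x * y = y * (z1 * x)
  nz2 : n * z2 = z2 * n
  z1j : z1 * j = j * z1
  yj : y * j * x = j

/-- dimension of the joint eigenspace -/
noncomputable def dm (z1 z2 x : L) (ω : K) (i j k : Fin 3) : ℕ := finrank K (E3 (ρ z1) (ρ z2) (ρ x) ω (i, j, k))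

variable {z1 z2 x y s h n j : L} (R : Rel z1 z2 x y s h n j) {ω : K} (hω : ω ^ 2 + ω + 1 = 0) (h1 : ω ≠ 1)
  (hω3 : ω ^ 3 = 1) (h3 : (3 : K) ≠ 0)

omit [FiniteDimensional K V] in
theorem mul_app (a b : L) (v : V) : ρ a (ρ b v) = ρ (a * b) v := by rw [map_mul, Module.End.mul_apply]

include R in
theorem dm_s (i j k : Fin 3) : dm ρ z1 z2 x ω i j k ≤ dm ρ z1 z2 x ω j i k := by
  refine finrank_le_of_maps ρ s fun v hv => ?_
  rw [mem_E3] at hv ⊢
  obtain ⟨e1, e2, e3⟩ := hv
  refine ⟨?_, ?_, ?_⟩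
  · rw [mul_app, R.z1s, ← mul_app, e2, map_smul]
  · rw [mul_app, R.z2s, ← mul_app, e1, map_smul]
  · rw [mul_app, R.xs, ← mul_app, e3, map_smul]

include R hω3 in
theorem dm_h (i j k : Fin 3) : dm ρ z1 z2 x ω i j k ≤ dm ρ z1 z2 x ω i j (k + k) := by
  refine finrank_le_of_maps ρ h fun v hv => ?_
  rw [mem_E3] at hv ⊢
  obtain ⟨e1, e2, e3⟩ := hv
  refine ⟨?_, ?_, ?_⟩
  · rw [mul_app, R.z1h, ← mul_app, e1, map_smul]
  · rw [mul_app, R.z2h, ← mul_app, e2, map_smul]
  · rw [mul_app, R.xh, ← mul_app, ← mul_app, e3, map_smul, e3, smul_smul, map_smul, pow_add_fin hω3]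

include R hω3 in
theorem dm_y (i j k : Fin 3) : dm ρ z1 z2 x ω i j k ≤ dm ρ z1 z2 x ω i (i + j + (k + k)) (i + k) := by
  refine finrank_le_of_maps ρ y fun v hv => ?_
  rw [mem_E3] at hv ⊢
  obtain ⟨e1, e2, e3⟩ := hv
  refine ⟨?_, ?_, ?_⟩
  · rw [mul_app, R.z1y, ← mul_app, e1, map_smul]
  · rw [mul_app, R.z2y, ← mul_app, ← mul_app, ← mul_app, ← mul_app, e3, map_smul, e3, smul_smul]
    simp only [map_smul, e2, e1, smul_smul, pow_add_fin hω3]
    congr 1
    ring
  · rw [mul_app, R.xy, ← mul_app, ← mul_app, e3, map_smul, e1, smul_smul, map_smul, pow_add_fin hω3]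
    congr 1
    ring

include R hω hω3 h1 h3 in
theorem dm_sum [IsAlgClosed K] (hV : finrank K V = 7) : ∑ t : Fin 3 × Fin 3 × Fin 3, dm ρ z1 z2 x ω t.1 t.2.1 t.2.2 = 7 := by
  have e := sum_E3 (A := ρ z1) (B := ρ z2) (C := ρ x)
    (by rw [← map_mul, ← map_mul, R.z1z2]) (by rw [← map_mul, ← map_mul, R.z1x])
    (by rw [← map_mul, ← map_mul, R.z2x]) (by rw [← map_pow, R.z1_three, map_one])
    (by rw [← map_pow, R.z2_three, map_one]) (by rw [← map_pow, R.x_three, map_one]) h3 hω h1 hω3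
  rw [hV] at e
  exact e

theorem fin1 : ∀ k : Fin 3, k + k + (k + k) = k := by decide

theorem fin2 : ∀ i j k : Fin 3, i + (i + (i + j + (k + k)) + (i + k + (i + k))) + (i + (i + k) + (i + (i + k))) = j := by
  decide

theorem fin3 : ∀ i k : Fin 3, i + (i + (i + k)) = k := by decide

/-- The combinatorics of the orbits on the 27 weights. -/
theorem comb (m : Fin 3 → Fin 3 → Fin 3 → ℕ) (hs : ∀ i j k, m i j k ≤ m j i k) (hh : ∀ i j k, m i j k ≤ m i j (k + k))
    (hy : ∀ i j k, m i j k ≤ m i (i + j + (k + k)) (i + k)) (hsum : ∑ t : Fin 3 × Fin 3 × Fin 3, m t.1 t.2.1 t.2.2 = 7) :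
    (∀ j k : Fin 3, k ≠ 0 → m 0 j k = 0) ∧
      (4 ≤ m 0 0 0 + m 0 1 0 + m 0 2 0 ∨ (m 0 0 0 = 1 ∧ m 0 1 0 = 0 ∧ m 0 2 0 = 0)) := by
  have hs' : ∀ i j k, m i j k = m j i k := fun i j k => le_antisymm (hs i j k) (hs j i k)
  have hh' : ∀ i j k, m i j k = m i j (k + k) := by
    intro i j k
    refine le_antisymm (hh i j k) ((hh i j (k + k)).trans (le_of_eq ?_))
    rw [fin1]
  have hy' : ∀ i j k, m i j k = m i (i + j + (k + k)) (i + k) := by
    intro i j k
    refine le_antisymm (hy i j k) ((hy _ _ _).trans ((hy _ _ _).trans (le_of_eq ?_)))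
    rw [fin2, fin3]
  simp only [Fintype.sum_prod_type, Fin.sum_univ_three] at hsum
  have a1 := hs' 0 1 0
  have a2 := hs' 0 1 1
  have a3 := hs' 0 1 2
  have a4 := hs' 0 2 0
  have a5 := hs' 0 2 1
  have a6 := hs' 0 2 2
  have a7 := hs' 1 2 0
  have a8 := hs' 1 2 1
  have a9 := hs' 1 2 2
  have b1 := hh' 0 0 1
  have b2 := hh' 0 1 1
  have b3 := hh' 0 2 1
  have b4 := hh' 1 0 1
  have b5 := hh' 1 1 1
  have b6 := hh' 1 2 1
  have b7 := hh' 2 0 1
  have b8 := hh' 2 1 1
  have b9 := hh' 2 2 1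
  have c : ∀ i j k : Fin 3, m i j k = m i (i + j + (k + k)) (i + k) := hy'
  have c1 := c 0 0 1
  have c2 := c 0 1 1
  have c3 := c 0 2 1
  have c4 := c 0 0 2
  have c5 := c 1 0 0
  have c6 := c 1 0 1
  have c7 := c 1 0 2
  have c8 := c 1 1 0
  have c9 := c 1 1 1
  have c10 := c 1 1 2
  have c11 := c 1 2 0
  have c12 := c 1 2 1
  have c13 := c 1 2 2
  have c14 := c 2 0 0
  have c15 := c 2 0 1
  have c16 := c 2 0 2
  have c17 := c 2 1 0
  have c18 := c 2 1 1
  have c19 := c 2 1 2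
  have c20 := c 2 2 0
  have c21 := c 2 2 1
  have c22 := c 2 2 2
  simp only [show (0 : Fin 3) + 0 = 0 from rfl, show (0 : Fin 3) + 1 = 1 from rfl, show (0 : Fin 3) + 2 = 2 from rfl,
    show (1 : Fin 3) + 0 = 1 from rfl, show (1 : Fin 3) + 1 = 2 from rfl, show (1 : Fin 3) + 2 = 0 from rfl,
    show (2 : Fin 3) + 0 = 2 from rfl, show (2 : Fin 3) + 1 = 0 from rfl, show (2 : Fin 3) + 2 = 1 from rfl] at *
  refine ⟨?_, by omega⟩
  intro j k hk
  fin_cases j <;> fin_cases k
  · exact absurd rfl hk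
  · change m 0 0 1 = 0; omega
  · change m 0 0 2 = 0; omega
  · exact absurd rfl hk
  · change m 0 1 1 = 0; omega
  · change m 0 1 2 = 0; omega
  · exact absurd rfl hk
  · change m 0 2 1 = 0; omega
  · change m 0 2 2 = 0; omega

omit [FiniteDimensional K V] in
/-- An operator acting on a non-zero space has an eigenvector there. -/
theorem exists_eigen [IsAlgClosed K] [FiniteDimensional K V] (T : Module.End K V) (D : Submodule K V) (hD : D ≠ ⊥)
    (hTD : ∀ v ∈ D, T v ∈ D) : ∃ v ∈ D, v ≠ 0 ∧ ∃ μ : K, T v = μ • v := by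
  have : Nontrivial D := (Submodule.nontrivial_iff_ne_bot).2 hD
  obtain ⟨μ, hμ⟩ := Module.End.exists_eigenvalue (T.restrict hTD)
  obtain ⟨v, hv⟩ := hμ.exists_hasEigenvector
  refine ⟨v, v.2, fun h => hv.2 (Subtype.ext h), μ, ?_⟩
  have := congrArg Subtype.val hv.apply_eq_smul
  exact this

include R hω hω3 h1 h3 in
theorem exists_both [IsAlgClosed K] (hV : finrank K V = 7) : ∃ w : V, w ≠ 0 ∧ (ρ z1 w = w ∧ ρ x w = w ∧ ρ y w = w) ∧
    (ρ z1 (ρ n⁻¹ w) = ρ n⁻¹ w ∧ ρ x (ρ n⁻¹ w) = ρ n⁻¹ w ∧ ρ y (ρ n⁻¹ w) = ρ n⁻¹ w) := by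
  classical
  have hz1 : (ρ z1) ^ 3 = 1 := by rw [← map_pow, R.z1_three, map_one]
  have hz2 : (ρ z2) ^ 3 = 1 := by rw [← map_pow, R.z2_three, map_one]
  have hx : (ρ x) ^ 3 = 1 := by rw [← map_pow, R.x_three, map_one]
  obtain ⟨c1, c2⟩ := comb (dm ρ z1 z2 x ω) (dm_s ρ R) (dm_h ρ R hω3) (dm_y ρ R hω3) (dm_sum ρ R hω h1 hω3 h3 hV)
  -- the fixed space of z1
  let D : Submodule K V := (ρ z1).eigenspace 1
  have hD : ∀ v, v ∈ D ↔ ρ z1 v = v := by
    intro v
    rw [Module.End.mem_eigenspace_iff, one_smul]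
  -- a vector of weight (0, j, k) forces dm ≠ 0
  have hne : ∀ j k : Fin 3, ∀ v : V, v ≠ 0 → ρ z1 v = v → ρ z2 v = ω ^ j.val • v → ρ x v = ω ^ k.val • v →
      dm ρ z1 z2 x ω 0 j k ≠ 0 := by
    intro j k v hv e1 e2 e3 h0
    have hb : E3 (ρ z1) (ρ z2) (ρ x) ω (0, j, k) = ⊥ := Submodule.finrank_eq_zero.1 h0
    have hm : v ∈ E3 (ρ z1) (ρ z2) (ρ x) ω (0, j, k) := by
      rw [mem_E3]
      refine ⟨?_, e2, e3⟩
      rw [e1]
      change v = ω ^ 0 • v
      rw [pow_zero, one_smul]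
    rw [hb] at hm
    exact hv ((Submodule.mem_bot K).1 hm)
  -- x fixes D
  have hxD : ∀ v ∈ D, ρ x v = v := by
    refine fix_of_no_eigen hω hω3 hx D ?_ ?_
    · intro v hv
      rw [hD] at hv ⊢
      rw [mul_app, R.z1x, ← mul_app, hv]
    · intro a ha v hv hxv
      by_contra hv0
      let D' : Submodule K V := D ⊓ (ρ x).eigenspace (ω ^ a.val)
      have hvD' : v ∈ D' := ⟨hv, Module.End.mem_eigenspace_iff.2 hxv⟩
      have hD' : D' ≠ ⊥ := fun hb => hv0 ((Submodule.mem_bot K).1 (hb ▸ hvD'))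
      obtain ⟨u, ⟨hu1, hu2⟩, hu0, μ, hμ⟩ := exists_eigen (ρ z2) D' hD' (by
        rintro u ⟨hu1, hu2⟩
        refine ⟨?_, ?_⟩
        · have hu1' := (hD u).1 hu1
          change ρ z2 u ∈ D
          rw [hD, mul_app, R.z1z2, ← mul_app, hu1']
        · have hu2' := Module.End.mem_eigenspace_iff.1 hu2
          refine Module.End.mem_eigenspace_iff.2 ?_
          rw [mul_app, ← R.z2x, ← mul_app, hu2', map_smul])
      obtain ⟨b, hb⟩ := exists_pow hω hω3 (pow_eigen hz2 hu0 hμ)
      rw [hb] at hμ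
      exact hne b a u hu0 ((hD u).1 hu1) hμ (Module.End.mem_eigenspace_iff.1 hu2) (c1 b a ha)
  -- j maps D to D, and y fixes D
  have hjD : ∀ v ∈ D, ρ j⁻¹ v ∈ D := by
    intro v hv
    rw [hD] at hv ⊢
    have e : z1 * j⁻¹ = j⁻¹ * z1 := by
      rw [mul_inv_eq_iff_eq_mul, mul_assoc, R.z1j, inv_mul_cancel_left]
    rw [mul_app, e, ← mul_app, hv]
  have hyD : ∀ v ∈ D, ρ y v = v := by
    intro v hv
    have e1 : ρ x (ρ j⁻¹ v) = ρ j⁻¹ v := hxD _ (hjD v hv)
    have e2 : y * j * x * j⁻¹ = 1 := by rw [R.yj, mul_inv_cancel]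
    have e3 : ρ y (ρ j (ρ x (ρ j⁻¹ v))) = v := by
      rw [mul_app, mul_app, mul_app, e2, map_one, Module.End.one_apply]
    rw [e1, mul_app ρ j, mul_inv_cancel, map_one, Module.End.one_apply] at e3
    exact e3
  -- it is enough to find a non-zero w in D with n⁻¹ w in D
  suffices hw : ∃ w : V, w ≠ 0 ∧ w ∈ D ∧ ρ n⁻¹ w ∈ D by
    obtain ⟨w, hw0, hw1, hw2⟩ := hw
    exact ⟨w, hw0, ⟨(hD w).1 hw1, hxD w hw1, hyD w hw1⟩, (hD _).1 hw2, hxD _ hw2, hyD _ hw2⟩
  have hdec : ∀ j : Fin 3, E3 (ρ z1) (ρ z2) (ρ x) ω (0, j, 0) ≤ D := by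
    intro j v hv
    rw [mem_E3] at hv
    rw [hD, hv.1]
    change ω ^ 0 • v = v
    rw [pow_zero, one_smul]
  rcases c2 with c2 | ⟨c2, c3, c4⟩
  · -- dim D ≥ 4
    have hDdim : 4 ≤ finrank K D := by
      have hind := indep_E3 (A := ρ z1) (B := ρ z2) (C := ρ x)
        (by rw [← map_mul, ← map_mul, R.z1z2]) (by rw [← map_mul, ← map_mul, R.z1x])
        (by rw [← map_mul, ← map_mul, R.z2x]) hz1 hz2 hx h3 hω h1 hω3
      have hinj : Function.Injective (fun j : Fin 3 => ((0 : Fin 3), j, (0 : Fin 3))) := by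
        intro a b hab
        simpa using hab
      have hs := sum_finrank_le_of_le (hind.comp hinj) D hdec
      rw [Fin.sum_univ_three] at hs
      exact c2.trans hs
    let D2 : Submodule K V := D.map (ρ n)
    have hD2 : finrank K D2 = finrank K D :=
      (Submodule.equivMapOfInjective (ρ n) (H912.Bd.rho_injective ρ n) _).finrank_eq.symm
    have hint : D ⊓ D2 ≠ ⊥ := by
      intro hb
      have := Submodule.finrank_sup_add_finrank_inf_eq D D2
      rw [hb, finrank_bot] at this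
      have h7 := Submodule.finrank_le (D ⊔ D2)
      omega
    obtain ⟨w, hw, hw0⟩ := Submodule.exists_mem_ne_zero_of_ne_bot hint
    refine ⟨w, hw0, hw.1, ?_⟩
    obtain ⟨u, hu, rfl⟩ := hw.2
    rw [mul_app, inv_mul_cancel, map_one, Module.End.one_apply]
    exact hu
  · -- dim D = 1
    have hz2D : ∀ v ∈ D, ρ z2 v = v := by
      refine fix_of_no_eigen hω hω3 hz2 D ?_ ?_
      · intro v hv
        rw [hD] at hv ⊢
        rw [mul_app, R.z1z2, ← mul_app, hv]
      · intro a ha v hv hzv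
        by_contra hv0
        refine hne a 0 v hv0 ((hD v).1 hv) hzv ?_ ?_
        · rw [hxD v hv]
          change v = ω ^ 0 • v
          rw [pow_zero, one_smul]
        · fin_cases a
          · exact absurd rfl ha
          · exact c3
          · exact c4
    have hDle : D ≤ E3 (ρ z1) (ρ z2) (ρ x) ω (0, 0, 0) := by
      intro v hv
      rw [mem_E3]
      change _ = ω ^ 0 • v ∧ _ = ω ^ 0 • v ∧ _ = ω ^ 0 • v
      rw [pow_zero, one_smul]
      exact ⟨(hD v).1 hv, hz2D v hv, hxD v hv⟩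
    have hDd : finrank K D = 1 := by
      have e : D = E3 (ρ z1) (ρ z2) (ρ x) ω (0, 0, 0) := le_antisymm hDle (hdec 0)
      rw [e]
      exact c2
    -- the fixed space of z2 is D
    have hsub : ∀ v : V, ρ z2 v = v → v ∈ D := by
      have hle : D ≤ (ρ z2).eigenspace 1 := fun v hv => by
        rw [Module.End.mem_eigenspace_iff, one_smul]
        exact hz2D v hv
      have hle2 : finrank K ((ρ z2).eigenspace 1) ≤ finrank K D := by
        refine finrank_le_of_maps ρ s fun v hv => ?_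
        rw [Module.End.mem_eigenspace_iff, one_smul] at hv
        rw [hD, mul_app, R.z1s, ← mul_app, hv]
      have e := Submodule.eq_of_le_of_finrank_le hle hle2
      intro v hv
      rw [e, Module.End.mem_eigenspace_iff, one_smul]
      exact hv
    obtain ⟨w, hw, hw0⟩ := Submodule.exists_mem_ne_zero_of_ne_bot (p := D) (by
      intro hb
      rw [hb, finrank_bot] at hDd
      exact zero_ne_one hDd)
    refine ⟨w, hw0, hw, hsub _ ?_⟩
    have e : z2 * n⁻¹ = n⁻¹ * z2 := by
      rw [mul_inv_eq_iff_eq_mul, mul_assoc, ← R.nz2, inv_mul_cancel_left]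
    rw [mul_app, e, ← mul_app, hz2D w hw]

end Cfsg.Agent.H659.SevenU42
end

private theorem dce_557202ebf937 : _root_.True := by
  try have : _root_.True := by simp only [_root_.Cfsg.Agent.H659.Triple.E3.eq_1]
  exact _root_.True.intro
end

-- part: H659/SevenU42
section
set_option linter.all false
open scoped Cfsg.Agent.FastGrp

/-!
# `PSp₄(3)` has no absolutely irreducible 7-dimensional module in characteristic ≠ 3
-/

set_option autoImplicit false

namespace Cfsg.Agent.H659.SevenU42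

open Module Cfsg.Agent.ChevalleyStructure.B2Rep Cfsg.Agent.ChevalleyStructure.B2Sp4

local instance instFactThree : Fact (Nat.Prime 3) := ⟨Nat.prime_three⟩

/-- A 4×4 matrix over `ZMod 3` from its rows. -/
def mk4 (r : Fin 4 → Fin 4 → ZMod 3) : Matrix I4 I4 (ZMod 3) := fun i j =>
  r (Sum.elim (fun a => if a = 0 then 0 else 1) (fun a => if a = 0 then 2 else 3) i)
    (Sum.elim (fun a => if a = 0 then 0 else 1) (fun a => if a = 0 then 2 else 3) j)

def sM : Matrix I4 I4 (ZMod 3) := mk4 ![![0,1,0,0],![1,0,0,0],![0,0,0,1],![0,0,1,0]]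
def hM : Matrix I4 I4 (ZMod 3) := mk4 ![![2,0,0,0],![0,1,0,0],![0,0,2,0],![0,0,0,1]]
def nM : Matrix I4 I4 (ZMod 3) := mk4 ![![0,0,2,0],![0,1,0,0],![1,0,0,0],![0,0,0,1]]
def jM : Matrix I4 I4 (ZMod 3) := mk4 ![![1,0,0,0],![0,0,0,2],![0,0,1,0],![0,1,0,0]]

theorem sM_mem : sM ∈ Matrix.symplecticGroup (Fin 2) (ZMod 3) := by
  rw [SymplecticGroup.mem_iff]; decide +kernel
theorem hM_mem : hM ∈ Matrix.symplecticGroup (Fin 2) (ZMod 3) := by
  rw [SymplecticGroup.mem_iff]; decide +kernel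
theorem nM_mem : nM ∈ Matrix.symplecticGroup (Fin 2) (ZMod 3) := by
  rw [SymplecticGroup.mem_iff]; decide +kernel
theorem jM_mem : jM ∈ Matrix.symplecticGroup (Fin 2) (ZMod 3) := by
  rw [SymplecticGroup.mem_iff]; decide +kernel

/-- root elements -/
def U (k : Fin 8) (t : ZMod 3) : Matrix.symplecticGroup (Fin 2) (ZMod 3) := uS (ZMod 3) k t

def sG : Matrix.symplecticGroup (Fin 2) (ZMod 3) := ⟨sM, sM_mem⟩
def hG : Matrix.symplecticGroup (Fin 2) (ZMod 3) := ⟨hM, hM_mem⟩
def nG : Matrix.symplecticGroup (Fin 2) (ZMod 3) := ⟨nM, nM_mem⟩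
def jG : Matrix.symplecticGroup (Fin 2) (ZMod 3) := ⟨jM, jM_mem⟩

set_option genSizeOf false in
set_option genInjectivity false in
structure KM4 where
  (a00 a01 a02 a03 a10 a11 a12 a13 a20 a21 a22 a23 a30 a31 a32 a33 : ℕ)

noncomputable def KM4.mul (a b : KM4) : KM4 :=
  KM4.rec (fun a00 a01 a02 a03 a10 a11 a12 a13 a20 a21 a22 a23 a30 a31 a32 a33 => KM4.rec (fun b00 b01 b02 b03 b10 b11 b12 b13 b20 b21 b22 b23 b30 b31 b32 b33 => KM4.mk
    (Nat.mod (Nat.add (Nat.add (Nat.mul a00 b00) (Nat.mul a01 b10)) (Nat.add (Nat.mul a02 b20) (Nat.mul a03 b30))) 3)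
    (Nat.mod (Nat.add (Nat.add (Nat.mul a00 b01) (Nat.mul a01 b11)) (Nat.add (Nat.mul a02 b21) (Nat.mul a03 b31))) 3)
    (Nat.mod (Nat.add (Nat.add (Nat.mul a00 b02) (Nat.mul a01 b12)) (Nat.add (Nat.mul a02 b22) (Nat.mul a03 b32))) 3)
    (Nat.mod (Nat.add (Nat.add (Nat.mul a00 b03) (Nat.mul a01 b13)) (Nat.add (Nat.mul a02 b23) (Nat.mul a03 b33))) 3)
    (Nat.mod (Nat.add (Nat.add (Nat.mul a10 b00) (Nat.mul a11 b10)) (Nat.add (Nat.mul a12 b20) (Nat.mul a13 b30))) 3)
    (Nat.mod (Nat.add (Nat.add (Nat.mul a10 b01) (Nat.mul a11 b11)) (Nat.add (Nat.mul a12 b21) (Nat.mul a13 b31))) 3)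
    (Nat.mod (Nat.add (Nat.add (Nat.mul a10 b02) (Nat.mul a11 b12)) (Nat.add (Nat.mul a12 b22) (Nat.mul a13 b32))) 3)
    (Nat.mod (Nat.add (Nat.add (Nat.mul a10 b03) (Nat.mul a11 b13)) (Nat.add (Nat.mul a12 b23) (Nat.mul a13 b33))) 3)
    (Nat.mod (Nat.add (Nat.add (Nat.mul a20 b00) (Nat.mul a21 b10)) (Nat.add (Nat.mul a22 b20) (Nat.mul a23 b30))) 3)
    (Nat.mod (Nat.add (Nat.add (Nat.mul a20 b01) (Nat.mul a21 b11)) (Nat.add (Nat.mul a22 b21) (Nat.mul a23 b31))) 3)
    (Nat.mod (Nat.add (Nat.add (Nat.mul a20 b02) (Nat.mul a21 b12)) (Nat.add (Nat.mul a22 b22) (Nat.mul a23 b32))) 3)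
    (Nat.mod (Nat.add (Nat.add (Nat.mul a20 b03) (Nat.mul a21 b13)) (Nat.add (Nat.mul a22 b23) (Nat.mul a23 b33))) 3)
    (Nat.mod (Nat.add (Nat.add (Nat.mul a30 b00) (Nat.mul a31 b10)) (Nat.add (Nat.mul a32 b20) (Nat.mul a33 b30))) 3)
    (Nat.mod (Nat.add (Nat.add (Nat.mul a30 b01) (Nat.mul a31 b11)) (Nat.add (Nat.mul a32 b21) (Nat.mul a33 b31))) 3)
    (Nat.mod (Nat.add (Nat.add (Nat.mul a30 b02) (Nat.mul a31 b12)) (Nat.add (Nat.mul a32 b22) (Nat.mul a33 b32))) 3)
    (Nat.mod (Nat.add (Nat.add (Nat.mul a30 b03) (Nat.mul a31 b13)) (Nat.add (Nat.mul a32 b23) (Nat.mul a33 b33))) 3)) b) a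

noncomputable def KM4.eqB (a b : KM4) : Bool :=
  KM4.rec (fun a00 a01 a02 a03 a10 a11 a12 a13 a20 a21 a22 a23 a30 a31 a32 a33 => KM4.rec (fun b00 b01 b02 b03 b10 b11 b12 b13 b20 b21 b22 b23 b30 b31 b32 b33 =>
    (and (Nat.beq a00 b00) (and (Nat.beq a01 b01) (and (Nat.beq a02 b02) (and (Nat.beq a03 b03) (and (Nat.beq a10 b10) (and (Nat.beq a11 b11) (and (Nat.beq a12 b12) (and (Nat.beq a13 b13) (and (Nat.beq a20 b20) (and (Nat.beq a21 b21) (and (Nat.beq a22 b22) (and (Nat.beq a23 b23) (and (Nat.beq a30 b30) (and (Nat.beq a31 b31) (and (Nat.beq a32 b32) (Nat.beq a33 b33))))))))))))))))) b) a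

theorem KM4.eq_of {a b : KM4} (h : KM4.eqB a b = true) : a = b := by
  obtain ⟨a00, a01, a02, a03, a10, a11, a12, a13, a20, a21, a22, a23, a30, a31, a32, a33⟩ := a
  obtain ⟨b00, b01, b02, b03, b10, b11, b12, b13, b20, b21, b22, b23, b30, b31, b32, b33⟩ := b
  have h' : (and (Nat.beq a00 b00) (and (Nat.beq a01 b01) (and (Nat.beq a02 b02) (and (Nat.beq a03 b03) (and (Nat.beq a10 b10) (and (Nat.beq a11 b11) (and (Nat.beq a12 b12) (and (Nat.beq a13 b13) (and (Nat.beq a20 b20) (and (Nat.beq a21 b21) (and (Nat.beq a22 b22) (and (Nat.beq a23 b23) (and (Nat.beq a30 b30) (and (Nat.beq a31 b31) (and (Nat.beq a32 b32) (Nat.beq a33 b33)))))))))))))))) = true := h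
  simp only [Bool.and_eq_true, Nat.beq_eq] at h'
  obtain ⟨rfl, rfl, rfl, rfl, rfl, rfl, rfl, rfl, rfl, rfl, rfl, rfl, rfl, rfl, rfl, rfl⟩ := h'
  rfl

noncomputable def KM4.s2 (i : Fin 2) (x y : ℕ) : ℕ := Nat.rec x (fun _ _ => y) i.val

noncomputable def KM4.ent (a : KM4) (i j : Fin 2 ⊕ Fin 2) : ℕ :=
  Sum.rec (fun i => Sum.rec (fun j => KM4.s2 i (KM4.s2 j a.a00 a.a01) (KM4.s2 j a.a10 a.a11))
      (fun j => KM4.s2 i (KM4.s2 j a.a02 a.a03) (KM4.s2 j a.a12 a.a13)) j)
    (fun i => Sum.rec (fun j => KM4.s2 i (KM4.s2 j a.a20 a.a21) (KM4.s2 j a.a30 a.a31))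
      (fun j => KM4.s2 i (KM4.s2 j a.a22 a.a23) (KM4.s2 j a.a32 a.a33)) j) i

def KM4.Rp (g : Matrix.symplecticGroup (Fin 2) (ZMod 3)) (a : KM4) : Prop := ∀ i j, g.1 i j = ((a.ent i j : ℕ) : ZMod 3)

theorem KM4.all4 {P : Fin 2 ⊕ Fin 2 → Prop} (h0 : P (Sum.inl 0)) (h1 : P (Sum.inl 1)) (h2 : P (Sum.inr 0))
    (h3 : P (Sum.inr 1)) (i : Fin 2 ⊕ Fin 2) : P i :=
  Sum.rec (Fin.forall_fin_two.2 ⟨h0, h1⟩) (Fin.forall_fin_two.2 ⟨h2, h3⟩) i

def KM4.enc (g : Matrix.symplecticGroup (Fin 2) (ZMod 3)) : KM4 := KM4.mk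
    (g.1 (Sum.inl 0) (Sum.inl 0)).val (g.1 (Sum.inl 0) (Sum.inl 1)).val (g.1 (Sum.inl 0) (Sum.inr 0)).val (g.1 (Sum.inl 0) (Sum.inr 1)).val
    (g.1 (Sum.inl 1) (Sum.inl 0)).val (g.1 (Sum.inl 1) (Sum.inl 1)).val (g.1 (Sum.inl 1) (Sum.inr 0)).val (g.1 (Sum.inl 1) (Sum.inr 1)).val
    (g.1 (Sum.inr 0) (Sum.inl 0)).val (g.1 (Sum.inr 0) (Sum.inl 1)).val (g.1 (Sum.inr 0) (Sum.inr 0)).val (g.1 (Sum.inr 0) (Sum.inr 1)).val
    (g.1 (Sum.inr 1) (Sum.inl 0)).val (g.1 (Sum.inr 1) (Sum.inl 1)).val (g.1 (Sum.inr 1) (Sum.inr 0)).val (g.1 (Sum.inr 1) (Sum.inr 1)).val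

theorem KM4.rp_enc (g : Matrix.symplecticGroup (Fin 2) (ZMod 3)) : KM4.Rp g (KM4.enc g) := by
  refine KM4.all4 ?_ ?_ ?_ ?_ <;> refine KM4.all4 ?_ ?_ ?_ ?_ <;> exact (ZMod.natCast_zmod_val _).symm

theorem KM4.cst (a b c d e f g h : ℕ) : (a : ZMod 3) * b + c * d + (e * f + g * h) =
    ((Nat.mod (Nat.add (Nat.add (Nat.mul a b) (Nat.mul c d)) (Nat.add (Nat.mul e f) (Nat.mul g h))) 3 : ℕ) : ZMod 3) := by
  show _ = (((a * b + c * d + (e * f + g * h)) % 3 : ℕ) : ZMod 3)
  rw [ZMod.natCast_mod, Nat.cast_add, Nat.cast_add, Nat.cast_add, Nat.cast_mul, Nat.cast_mul, Nat.cast_mul, Nat.cast_mul]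

theorem KM4.Rp.mul {x y : Matrix.symplecticGroup (Fin 2) (ZMod 3)} {a b : KM4} (hx : KM4.Rp x a) (hy : KM4.Rp y b) : KM4.Rp (x * y) (a.mul b) := by
  have e : ∀ i j, (x * y).1 i j = (a.ent i (Sum.inl 0) : ZMod 3) * b.ent (Sum.inl 0) j + a.ent i (Sum.inl 1) * b.ent (Sum.inl 1) j +
      (a.ent i (Sum.inr 0) * b.ent (Sum.inr 0) j + a.ent i (Sum.inr 1) * b.ent (Sum.inr 1) j) := by
    intro i j
    rw [← hx, ← hx, ← hx, ← hx, ← hy, ← hy, ← hy, ← hy]
    refine (Matrix.mul_apply (M := x.1) (N := y.1)).trans ?_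
    rw [Fintype.sum_sum_type, Fin.sum_univ_two, Fin.sum_univ_two]
  obtain ⟨a00, a01, a02, a03, a10, a11, a12, a13, a20, a21, a22, a23, a30, a31, a32, a33⟩ := a
  obtain ⟨b00, b01, b02, b03, b10, b11, b12, b13, b20, b21, b22, b23, b30, b31, b32, b33⟩ := b
  refine KM4.all4 ?_ ?_ ?_ ?_ <;> refine KM4.all4 ?_ ?_ ?_ ?_ <;> exact (e _ _).trans (KM4.cst _ _ _ _ _ _ _ _)

theorem KM4.Rp.eq {x y : Matrix.symplecticGroup (Fin 2) (ZMod 3)} {a b : KM4} (hx : KM4.Rp x a) (hy : KM4.Rp y b) (h : KM4.eqB a b = true) : x = y := by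
  rw [KM4.eq_of h] at hx
  exact Subtype.ext (Matrix.ext fun i j => (hx i j).trans (hy i j).symm)

theorem KM4.Rp.cube {x : Matrix.symplecticGroup (Fin 2) (ZMod 3)} {a : KM4} (hx : KM4.Rp x a) :
    KM4.Rp (x ^ 3) ((a.mul a).mul a) := (pow_three' x).symm ▸ (hx.mul hx).mul hx

theorem KM4.lit {x : Matrix.symplecticGroup (Fin 2) (ZMod 3)} {a : KM4} (h : KM4.eqB (KM4.enc x) a = true) : KM4.Rp x a :=
  KM4.eq_of h ▸ KM4.rp_enc x

def KM4.cz1 : KM4 := KM4.mk (nat_lit 1) (nat_lit 0) (nat_lit 1) (nat_lit 0) (nat_lit 0) (nat_lit 1) (nat_lit 0) (nat_lit 0) (nat_lit 0) (nat_lit 0) (nat_lit 1) (nat_lit 0) (nat_lit 0) (nat_lit 0) (nat_lit 0) (nat_lit 1)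
theorem KM4.rz1 : KM4.Rp (U 7 2) KM4.cz1 := KM4.lit (by decide +kernel)
def KM4.cz2 : KM4 := KM4.mk (nat_lit 1) (nat_lit 0) (nat_lit 0) (nat_lit 0) (nat_lit 0) (nat_lit 1) (nat_lit 0) (nat_lit 1) (nat_lit 0) (nat_lit 0) (nat_lit 1) (nat_lit 0) (nat_lit 0) (nat_lit 0) (nat_lit 0) (nat_lit 1)
theorem KM4.rz2 : KM4.Rp (U 4 1) KM4.cz2 := KM4.lit (by decide +kernel)
def KM4.cx : KM4 := KM4.mk (nat_lit 1) (nat_lit 0) (nat_lit 0) (nat_lit 1) (nat_lit 0) (nat_lit 1) (nat_lit 1) (nat_lit 0) (nat_lit 0) (nat_lit 0) (nat_lit 1) (nat_lit 0) (nat_lit 0) (nat_lit 0) (nat_lit 0) (nat_lit 1)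
theorem KM4.rx : KM4.Rp (U 6 2) KM4.cx := KM4.lit (by decide +kernel)
def KM4.cy : KM4 := KM4.mk (nat_lit 1) (nat_lit 1) (nat_lit 0) (nat_lit 0) (nat_lit 0) (nat_lit 1) (nat_lit 0) (nat_lit 0) (nat_lit 0) (nat_lit 0) (nat_lit 1) (nat_lit 0) (nat_lit 0) (nat_lit 0) (nat_lit 2) (nat_lit 1)
theorem KM4.ry : KM4.Rp (U 5 1) KM4.cy := KM4.lit (by decide +kernel)
def KM4.cs : KM4 := KM4.mk (nat_lit 0) (nat_lit 1) (nat_lit 0) (nat_lit 0) (nat_lit 1) (nat_lit 0) (nat_lit 0) (nat_lit 0) (nat_lit 0) (nat_lit 0) (nat_lit 0) (nat_lit 1) (nat_lit 0) (nat_lit 0) (nat_lit 1) (nat_lit 0)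
theorem KM4.rs : KM4.Rp sG KM4.cs := KM4.lit (by decide +kernel)
def KM4.ch : KM4 := KM4.mk (nat_lit 2) (nat_lit 0) (nat_lit 0) (nat_lit 0) (nat_lit 0) (nat_lit 1) (nat_lit 0) (nat_lit 0) (nat_lit 0) (nat_lit 0) (nat_lit 2) (nat_lit 0) (nat_lit 0) (nat_lit 0) (nat_lit 0) (nat_lit 1)
theorem KM4.rh : KM4.Rp hG KM4.ch := KM4.lit (by decide +kernel)
def KM4.cn : KM4 := KM4.mk (nat_lit 0) (nat_lit 0) (nat_lit 2) (nat_lit 0) (nat_lit 0) (nat_lit 1) (nat_lit 0) (nat_lit 0) (nat_lit 1) (nat_lit 0) (nat_lit 0) (nat_lit 0) (nat_lit 0) (nat_lit 0) (nat_lit 0) (nat_lit 1)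
theorem KM4.rn : KM4.Rp nG KM4.cn := KM4.lit (by decide +kernel)
def KM4.cj : KM4 := KM4.mk (nat_lit 1) (nat_lit 0) (nat_lit 0) (nat_lit 0) (nat_lit 0) (nat_lit 0) (nat_lit 0) (nat_lit 2) (nat_lit 0) (nat_lit 0) (nat_lit 1) (nat_lit 0) (nat_lit 0) (nat_lit 1) (nat_lit 0) (nat_lit 0)
theorem KM4.rj : KM4.Rp jG KM4.cj := KM4.lit (by decide +kernel)
def KM4.cone : KM4 := KM4.mk (nat_lit 1) (nat_lit 0) (nat_lit 0) (nat_lit 0) (nat_lit 0) (nat_lit 1) (nat_lit 0) (nat_lit 0) (nat_lit 0) (nat_lit 0) (nat_lit 1) (nat_lit 0) (nat_lit 0) (nat_lit 0) (nat_lit 0) (nat_lit 1)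
theorem KM4.rone : KM4.Rp 1 KM4.cone := KM4.lit (by decide +kernel)

theorem rel : Rel (U 7 2) (U 4 1) (U 6 2) (U 5 1) sG hG nG jG where
  z1_three := by apply KM4.Rp.eq; repeat' (first | with_reducible apply KM4.Rp.mul | with_reducible exact KM4.ry | with_reducible exact KM4.rs | with_reducible exact KM4.rj | with_reducible exact KM4.rz1 | with_reducible exact KM4.rz2 | with_reducible exact KM4.rx | with_reducible exact KM4.rh | with_reducible exact KM4.rn | with_reducible exact KM4.rone | with_reducible apply KM4.Rp.cube | with_reducible exact KM4.rp_enc _ | decide +kernel)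
  z2_three := by apply KM4.Rp.eq; repeat' (first | with_reducible apply KM4.Rp.mul | with_reducible exact KM4.ry | with_reducible exact KM4.rs | with_reducible exact KM4.rj | with_reducible exact KM4.rz1 | with_reducible exact KM4.rz2 | with_reducible exact KM4.rx | with_reducible exact KM4.rh | with_reducible exact KM4.rn | with_reducible exact KM4.rone | with_reducible apply KM4.Rp.cube | with_reducible exact KM4.rp_enc _ | decide +kernel)
  x_three := by apply KM4.Rp.eq; repeat' (first | with_reducible apply KM4.Rp.mul | with_reducible exact KM4.ry | with_reducible exact KM4.rs | with_reducible exact KM4.rj | with_reducible exact KM4.rz1 | with_reducible exact KM4.rz2 | with_reducible exact KM4.rx | with_reducible exact KM4.rh | with_reducible exact KM4.rn | with_reducible exact KM4.rone | with_reducible apply KM4.Rp.cube | with_reducible exact KM4.rp_enc _ | decide +kernel)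
  z1z2 := by apply KM4.Rp.eq; repeat' (first | with_reducible apply KM4.Rp.mul | with_reducible exact KM4.ry | with_reducible exact KM4.rs | with_reducible exact KM4.rj | with_reducible exact KM4.rz1 | with_reducible exact KM4.rz2 | with_reducible exact KM4.rx | with_reducible exact KM4.rh | with_reducible exact KM4.rn | with_reducible exact KM4.rone | with_reducible apply KM4.Rp.cube | with_reducible exact KM4.rp_enc _ | decide +kernel)
  z1x := by apply KM4.Rp.eq; repeat' (first | with_reducible apply KM4.Rp.mul | with_reducible exact KM4.ry | with_reducible exact KM4.rs | with_reducible exact KM4.rj | with_reducible exact KM4.rz1 | with_reducible exact KM4.rz2 | with_reducible exact KM4.rx | with_reducible exact KM4.rh | with_reducible exact KM4.rn | with_reducible exact KM4.rone | with_reducible apply KM4.Rp.cube | with_reducible exact KM4.rp_enc _ | decide +kernel)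
  z2x := by apply KM4.Rp.eq; repeat' (first | with_reducible apply KM4.Rp.mul | with_reducible exact KM4.ry | with_reducible exact KM4.rs | with_reducible exact KM4.rj | with_reducible exact KM4.rz1 | with_reducible exact KM4.rz2 | with_reducible exact KM4.rx | with_reducible exact KM4.rh | with_reducible exact KM4.rn | with_reducible exact KM4.rone | with_reducible apply KM4.Rp.cube | with_reducible exact KM4.rp_enc _ | decide +kernel)
  z1s := by apply KM4.Rp.eq; repeat' (first | with_reducible apply KM4.Rp.mul | with_reducible exact KM4.ry | with_reducible exact KM4.rs | with_reducible exact KM4.rj | with_reducible exact KM4.rz1 | with_reducible exact KM4.rz2 | with_reducible exact KM4.rx | with_reducible exact KM4.rh | with_reducible exact KM4.rn | with_reducible exact KM4.rone | with_reducible apply KM4.Rp.cube | with_reducible exact KM4.rp_enc _ | decide +kernel)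
  z2s := by apply KM4.Rp.eq; repeat' (first | with_reducible apply KM4.Rp.mul | with_reducible exact KM4.ry | with_reducible exact KM4.rs | with_reducible exact KM4.rj | with_reducible exact KM4.rz1 | with_reducible exact KM4.rz2 | with_reducible exact KM4.rx | with_reducible exact KM4.rh | with_reducible exact KM4.rn | with_reducible exact KM4.rone | with_reducible apply KM4.Rp.cube | with_reducible exact KM4.rp_enc _ | decide +kernel)
  xs := by apply KM4.Rp.eq; repeat' (first | with_reducible apply KM4.Rp.mul | with_reducible exact KM4.ry | with_reducible exact KM4.rs | with_reducible exact KM4.rj | with_reducible exact KM4.rz1 | with_reducible exact KM4.rz2 | with_reducible exact KM4.rx | with_reducible exact KM4.rh | with_reducible exact KM4.rn | with_reducible exact KM4.rone | with_reducible apply KM4.Rp.cube | with_reducible exact KM4.rp_enc _ | decide +kernel)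
  z1h := by apply KM4.Rp.eq; repeat' (first | with_reducible apply KM4.Rp.mul | with_reducible exact KM4.ry | with_reducible exact KM4.rs | with_reducible exact KM4.rj | with_reducible exact KM4.rz1 | with_reducible exact KM4.rz2 | with_reducible exact KM4.rx | with_reducible exact KM4.rh | with_reducible exact KM4.rn | with_reducible exact KM4.rone | with_reducible apply KM4.Rp.cube | with_reducible exact KM4.rp_enc _ | decide +kernel)
  z2h := by apply KM4.Rp.eq; repeat' (first | with_reducible apply KM4.Rp.mul | with_reducible exact KM4.ry | with_reducible exact KM4.rs | with_reducible exact KM4.rj | with_reducible exact KM4.rz1 | with_reducible exact KM4.rz2 | with_reducible exact KM4.rx | with_reducible exact KM4.rh | with_reducible exact KM4.rn | with_reducible exact KM4.rone | with_reducible apply KM4.Rp.cube | with_reducible exact KM4.rp_enc _ | decide +kernel)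
  xh := by apply KM4.Rp.eq; repeat' (first | with_reducible apply KM4.Rp.mul | with_reducible exact KM4.ry | with_reducible exact KM4.rs | with_reducible exact KM4.rj | with_reducible exact KM4.rz1 | with_reducible exact KM4.rz2 | with_reducible exact KM4.rx | with_reducible exact KM4.rh | with_reducible exact KM4.rn | with_reducible exact KM4.rone | with_reducible apply KM4.Rp.cube | with_reducible exact KM4.rp_enc _ | decide +kernel)
  z1y := by apply KM4.Rp.eq; repeat' (first | with_reducible apply KM4.Rp.mul | with_reducible exact KM4.ry | with_reducible exact KM4.rs | with_reducible exact KM4.rj | with_reducible exact KM4.rz1 | with_reducible exact KM4.rz2 | with_reducible exact KM4.rx | with_reducible exact KM4.rh | with_reducible exact KM4.rn | with_reducible exact KM4.rone | with_reducible apply KM4.Rp.cube | with_reducible exact KM4.rp_enc _ | decide +kernel)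
  z2y := by apply KM4.Rp.eq; repeat' (first | with_reducible apply KM4.Rp.mul | with_reducible exact KM4.ry | with_reducible exact KM4.rs | with_reducible exact KM4.rj | with_reducible exact KM4.rz1 | with_reducible exact KM4.rz2 | with_reducible exact KM4.rx | with_reducible exact KM4.rh | with_reducible exact KM4.rn | with_reducible exact KM4.rone | with_reducible apply KM4.Rp.cube | with_reducible exact KM4.rp_enc _ | decide +kernel)
  xy := by apply KM4.Rp.eq; repeat' (first | with_reducible apply KM4.Rp.mul | with_reducible exact KM4.ry | with_reducible exact KM4.rs | with_reducible exact KM4.rj | with_reducible exact KM4.rz1 | with_reducible exact KM4.rz2 | with_reducible exact KM4.rx | with_reducible exact KM4.rh | with_reducible exact KM4.rn | with_reducible exact KM4.rone | with_reducible apply KM4.Rp.cube | with_reducible exact KM4.rp_enc _ | decide +kernel)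
  nz2 := by apply KM4.Rp.eq; repeat' (first | with_reducible apply KM4.Rp.mul | with_reducible exact KM4.ry | with_reducible exact KM4.rs | with_reducible exact KM4.rj | with_reducible exact KM4.rz1 | with_reducible exact KM4.rz2 | with_reducible exact KM4.rx | with_reducible exact KM4.rh | with_reducible exact KM4.rn | with_reducible exact KM4.rone | with_reducible apply KM4.Rp.cube | with_reducible exact KM4.rp_enc _ | decide +kernel)
  z1j := by apply KM4.Rp.eq; repeat' (first | with_reducible apply KM4.Rp.mul | with_reducible exact KM4.ry | with_reducible exact KM4.rs | with_reducible exact KM4.rj | with_reducible exact KM4.rz1 | with_reducible exact KM4.rz2 | with_reducible exact KM4.rx | with_reducible exact KM4.rh | with_reducible exact KM4.rn | with_reducible exact KM4.rone | with_reducible apply KM4.Rp.cube | with_reducible exact KM4.rp_enc _ | decide +kernel)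
  yj := by apply KM4.Rp.eq; repeat' (first | with_reducible apply KM4.Rp.mul | with_reducible exact KM4.ry | with_reducible exact KM4.rs | with_reducible exact KM4.rj | with_reducible exact KM4.rz1 | with_reducible exact KM4.rz2 | with_reducible exact KM4.rx | with_reducible exact KM4.rh | with_reducible exact KM4.rn | with_reducible exact KM4.rone | with_reducible apply KM4.Rp.cube | with_reducible exact KM4.rp_enc _ | decide +kernel)

theorem e70 : U 0 1 * nG = nG * U 7 2 := by apply KM4.Rp.eq; repeat' (first | with_reducible apply KM4.Rp.mul | with_reducible exact KM4.ry | with_reducible exact KM4.rs | with_reducible exact KM4.rj | with_reducible exact KM4.rz1 | with_reducible exact KM4.rz2 | with_reducible exact KM4.rx | with_reducible exact KM4.rh | with_reducible exact KM4.rn | with_reducible exact KM4.rone | with_reducible apply KM4.Rp.cube | with_reducible exact KM4.rp_enc _ | decide +kernel)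
theorem e62 : U 2 2 * nG = nG * U 6 2 := by apply KM4.Rp.eq; repeat' (first | with_reducible apply KM4.Rp.mul | with_reducible exact KM4.ry | with_reducible exact KM4.rs | with_reducible exact KM4.rj | with_reducible exact KM4.rz1 | with_reducible exact KM4.rz2 | with_reducible exact KM4.rx | with_reducible exact KM4.rh | with_reducible exact KM4.rn | with_reducible exact KM4.rone | with_reducible apply KM4.Rp.cube | with_reducible exact KM4.rp_enc _ | decide +kernel)
theorem e51 : U 1 2 * nG = nG * U 5 1 := by apply KM4.Rp.eq; repeat' (first | with_reducible apply KM4.Rp.mul | with_reducible exact KM4.ry | with_reducible exact KM4.rs | with_reducible exact KM4.rj | with_reducible exact KM4.rz1 | with_reducible exact KM4.rz2 | with_reducible exact KM4.rx | with_reducible exact KM4.rh | with_reducible exact KM4.rn | with_reducible exact KM4.rone | with_reducible apply KM4.Rp.cube | with_reducible exact KM4.rp_enc _ | decide +kernel)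
theorem e3 : U 3 1 * (U 5 1 * U 1 1) = U 1 1 * U 5 1 := by apply KM4.Rp.eq; repeat' (first | with_reducible apply KM4.Rp.mul | with_reducible exact KM4.ry | with_reducible exact KM4.rs | with_reducible exact KM4.rj | with_reducible exact KM4.rz1 | with_reducible exact KM4.rz2 | with_reducible exact KM4.rx | with_reducible exact KM4.rh | with_reducible exact KM4.rn | with_reducible exact KM4.rone | with_reducible apply KM4.Rp.cube | with_reducible exact KM4.rp_enc _ | decide +kernel)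
theorem e4 : U 4 1 * (U 6 1 * U 2 1) = U 2 1 * U 6 1 := by apply KM4.Rp.eq; repeat' (first | with_reducible apply KM4.Rp.mul | with_reducible exact KM4.ry | with_reducible exact KM4.rs | with_reducible exact KM4.rj | with_reducible exact KM4.rz1 | with_reducible exact KM4.rz2 | with_reducible exact KM4.rx | with_reducible exact KM4.rh | with_reducible exact KM4.rn | with_reducible exact KM4.rone | with_reducible apply KM4.Rp.cube | with_reducible exact KM4.rp_enc _ | decide +kernel)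
theorem U_sq : ∀ k : Fin 8, U k 1 * U k 1 = U k 2 := fun k =>
  ((KM4.rp_enc _).mul (KM4.rp_enc _)).eq (KM4.rp_enc _)
    ((by decide +kernel : ∀ k : Fin 8, KM4.eqB ((KM4.enc (U k 1)).mul (KM4.enc (U k 1))) (KM4.enc (U k 2)) = true) k)
theorem U_sq' : ∀ k : Fin 8, U k 2 * U k 2 = U k 1 := fun k =>
  ((KM4.rp_enc _).mul (KM4.rp_enc _)).eq (KM4.rp_enc _)
    ((by decide +kernel : ∀ k : Fin 8, KM4.eqB ((KM4.enc (U k 2)).mul (KM4.enc (U k 2))) (KM4.enc (U k 1)) = true) k)
theorem U_zero : ∀ k : Fin 8, U k 0 = 1 := fun k =>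
  (KM4.rp_enc _).eq KM4.rone
    ((by decide +kernel : ∀ k : Fin 8, KM4.eqB (KM4.enc (U k 0)) (KM4.cone) = true) k)

theorem gen (S : Subgroup (Matrix.symplecticGroup (Fin 2) (ZMod 3))) (h7 : U 7 2 ∈ S) (h6 : U 6 2 ∈ S)
    (h5 : U 5 1 ∈ S) (h7' : nG * U 7 2 * nG⁻¹ ∈ S) (h6' : nG * U 6 2 * nG⁻¹ ∈ S) (h5' : nG * U 5 1 * nG⁻¹ ∈ S) :
    S = ⊤ := by
  have k7 : U 7 1 ∈ S := by rw [← U_sq']; exact S.mul_mem h7 h7
  have k6 : U 6 1 ∈ S := by rw [← U_sq']; exact S.mul_mem h6 h6
  have k0 : U 0 1 ∈ S := by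
    rw [← e70, mul_inv_cancel_right] at h7'
    exact h7'
  have k2 : U 2 1 ∈ S := by
    rw [← e62, mul_inv_cancel_right] at h6'
    rw [← U_sq']; exact S.mul_mem h6' h6'
  have k1 : U 1 1 ∈ S := by
    rw [← e51, mul_inv_cancel_right] at h5'
    rw [← U_sq']; exact S.mul_mem h5' h5'
  have k3 : U 3 1 ∈ S := by
    rw [← mul_inv_eq_iff_eq_mul.2 e3.symm]
    exact S.mul_mem (S.mul_mem k1 h5) (S.inv_mem (S.mul_mem h5 k1))
  have k4 : U 4 1 ∈ S := by
    rw [← mul_inv_eq_iff_eq_mul.2 e4.symm]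
    exact S.mul_mem (S.mul_mem k2 k6) (S.inv_mem (S.mul_mem k6 k2))
  have hall : ∀ k : Fin 8, U k 1 ∈ S := by
    intro k
    fin_cases k
    · exact k0
    · exact k1
    · exact k2
    · exact k3
    · exact k4
    · exact h5
    · exact k6
    · exact k7
  have ht : ∀ t : ZMod 3, t = 0 ∨ t = 1 ∨ t = 2 := by decide
  have hall2 : ∀ (k : Fin 8) (t : ZMod 3), U k t ∈ S := by
    intro k t
    rcases ht t with rfl | rfl | rfl
    · rw [U_zero]; exact S.one_mem
    · exact hall k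
    · rw [← U_sq]; exact S.mul_mem (hall k) (hall k)
  rw [eq_top_iff, ← gam_eq_top]
  refine (Subgroup.closure_le _).2 ?_
  rintro A ⟨r, t, rfl⟩
  exact hall2 r t

/-- A 7-dimensional representation of `Sp₄(3)` over an algebraically closed field of characteristic ≠ 3 has a non-zero
fixed vector. -/
theorem exists_fixed {K : Type*} [Field K] [IsAlgClosed K] (h3 : (3 : K) ≠ 0) {V : Type*} [AddCommGroup V] [Module K V]
    [FiniteDimensional K V] (hV : finrank K V = 7)
    (ρ : Matrix.symplecticGroup (Fin 2) (ZMod 3) →* Module.End K V) : ∃ w : V, w ≠ 0 ∧ ∀ g, ρ g w = w := by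
  obtain ⟨ω, hω, h1, hω3⟩ := Triple.exists_omega h3
  obtain ⟨w, hw0, ⟨a1, a2, a3⟩, b1, b2, b3⟩ := exists_both ρ rel hω h1 hω3 h3 hV
  let S : Subgroup (Matrix.symplecticGroup (Fin 2) (ZMod 3)) :=
    { carrier := {g | ρ g w = w}
      mul_mem' := by
        intro a b ha hb
        change ρ (a * b) w = w
        rw [← mul_app]
        rw [show ρ b w = w from hb]
        exact ha
      one_mem' := by
        change ρ 1 w = w
        rw [map_one, Module.End.one_apply]
      inv_mem' := by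
        intro a ha
        change ρ a⁻¹ w = w
        have ha' : ρ a w = w := ha
        conv_lhs => rw [← ha']
        rw [mul_app, inv_mul_cancel, map_one, Module.End.one_apply] }
  have hcj : ∀ g : Matrix.symplecticGroup (Fin 2) (ZMod 3), ρ g (ρ nG⁻¹ w) = ρ nG⁻¹ w → nG * g * nG⁻¹ ∈ S := by
    intro g hg
    change ρ (nG * g * nG⁻¹) w = w
    rw [← mul_app, ← mul_app, hg, mul_app, mul_inv_cancel, map_one, Module.End.one_apply]
  have hS := gen S a1 a2 a3 (hcj _ b1) (hcj _ b2) (hcj _ b3)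
  refine ⟨w, hw0, fun g => ?_⟩
  have : g ∈ S := by rw [hS]; exact Subgroup.mem_top g
  exact this

/-- Fixed vectors over a field extension give fixed vectors. -/
theorem descend {F K : Type*} [Field F] [Field K] [Algebra F K] {n : ℕ} {X : Type*}
    (M : X → Matrix (Fin n) (Fin n) F) (w : Fin n → K) (hw : w ≠ 0)
    (h : ∀ g, ((M g).map (algebraMap F K)).mulVec w = w) : ∃ v : Fin n → F, v ≠ 0 ∧ ∀ g, (M g).mulVec v = v := by
  obtain ⟨i, hi⟩ : ∃ i, w i ≠ 0 := by
    by_contra hcon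
    push Not at hcon
    exact hw (funext hcon)
  obtain ⟨φ, hφ⟩ : ∃ φ : Module.Dual F K, φ (w i) ≠ 0 := by
    by_contra hcon
    push Not at hcon
    exact hi ((Module.forall_dual_apply_eq_zero_iff F (w i)).1 hcon)
  refine ⟨fun j => φ (w j), fun h0 => hφ (congrFun h0 i), fun g => ?_⟩
  funext j
  have h2 := congrArg φ (congrFun (h g) j)
  rw [← h2]
  simp only [Matrix.mulVec, dotProduct, Matrix.map_apply, map_sum]
  refine Finset.sum_congr rfl fun k _ => ?_
  rw [← Algebra.smul_def, map_smul, smul_eq_mul]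

theorem seven_U42 {F : Type*} [Field F] [Finite F] {K : Type} [Field K] [Fintype K] (hK : Fintype.card K = 3) (h3 : (3 : F) ≠ 0)
    (ρ : Cfsg.PSp 2 K →* Matrix.GeneralLinearGroup (Fin 7) F)
    (habs : Cfsg.Geo.ActsAbsolutelyIrreducibly (Cfsg.Geo.matrixSet ρ.range)) : False := by
  classical
  let e0 : ZMod 3 ≃+* K := ZMod.ringEquivOfPrime K Nat.prime_three hK
  let E : Cfsg.PSp 2 (ZMod 3) ≃* Cfsg.PSp 2 K := Cfsg.Agent.LieClassical.FieldTransfer.pspCongr 2 e0
  let A := AlgebraicClosure F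
  have h3A : (3 : A) ≠ 0 := by
    intro h
    apply h3
    apply (algebraMap F A).injective
    rw [map_ofNat, map_zero, h]
  let τ : Matrix.symplecticGroup (Fin 2) (ZMod 3) →* Matrix (Fin 7) (Fin 7) F :=
    (Units.coeHom _).comp (ρ.comp (E.toMonoidHom.comp (QuotientGroup.mk' (Subgroup.center _))))
  let τA : Matrix.symplecticGroup (Fin 2) (ZMod 3) →* Module.End A (Fin 7 → A) :=
    ((Matrix.toLinAlgEquiv' (R := A) (n := Fin 7)).toMonoidHom.comp
      ((algebraMap F A).mapMatrix (m := Fin 7)).toMonoidHom).comp τ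
  obtain ⟨w, hw0, hw⟩ := exists_fixed h3A (by simp) τA
  obtain ⟨v, hv0, hv⟩ := descend τ w hw0 (fun g => by
    have := hw g
    exact this)
  have hW : ∀ s ∈ Cfsg.Geo.matrixSet ρ.range, (F ∙ v).map (Matrix.toLin' s) ≤ F ∙ v := by
    rintro _ ⟨_, ⟨g, rfl⟩, rfl⟩
    obtain ⟨g', rfl⟩ := E.surjective g
    obtain ⟨g'', rfl⟩ := QuotientGroup.mk'_surjective _ g'
    rw [Submodule.map_span, Set.image_singleton]
    refine Submodule.span_mono (Set.singleton_subset_singleton.2 ?_)
    exact hv g''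
  rcases habs.1 _ hW with h | h
  · exact hv0 (Submodule.span_singleton_eq_bot.1 h)
  · have h1 := finrank_span_singleton (K := F) hv0
    rw [h, finrank_top] at h1
    simp at h1

end Cfsg.Agent.H659.SevenU42
end

-- part: H659/HeisLine
section
prune_inst 0x7f000002404182200000018001202000000000004000000000000000102080000402841004110100502100008c068090000119800004200000008000400000100000080000000000100020086000000000000000000000000000000000000000004000000000
set_option linter.all false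
open scoped Cfsg.Agent.FastGrp

-- part: H659/BorelCoef
section
/-!
# Matrix coefficients of a rank-one group on a vector fixed by the unipotent radical

`G` a group with a rank-one datum `Data B U n`, `B = U ⟨h⟩`. Representations with a vector `v` and a functional `φ`
on which `U` acts trivially and `h` by the scalar `l`, `φ v = 1`: the number `φ (n v)` depends only on `l` when the
degrees are small, and the representation is determined by `l`.
-/

set_option autoImplicit false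

namespace Cfsg.Agent.H659.BorelCoef

open Cfsg.Agent.LieRecognition.RankOneAbstract Cfsg.Agent.H906
open scoped MatrixGroups Matrix

variable {G : Type*} [Group G] {A : Type*} [Field A]

/-- `U` acts trivially and `h` by `l` on the vector `v` and on the functional `φ`. -/
structure Ad {ι : Type} [Fintype ι] [DecidableEq ι] (U : Subgroup G) (h : G) (ρ : G →* Matrix ι ι A)
    (v φ : ι → A) (l : A) : Prop where
  one : φ ⬝ᵥ v = 1
  uv : ∀ u ∈ U, ρ u *ᵥ v = v
  hv : ρ h *ᵥ v = l • v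
  uφ : ∀ u ∈ U, ∀ w, φ ⬝ᵥ (ρ u *ᵥ w) = φ ⬝ᵥ w
  hφ : ∀ w, φ ⬝ᵥ (ρ h *ᵥ w) = l * (φ ⬝ᵥ w)

section

variable {ι : Type} [Fintype ι] [DecidableEq ι] {U : Subgroup G} {h : G} {ρ : G →* Matrix ι ι A}
    {v φ : ι → A} {l : A}

omit [Fintype ι] [DecidableEq ι] in
theorem rho_mulVec [Fintype ι] [DecidableEq ι] (ρ : G →* Matrix ι ι A) (a b : G) (w : ι → A) :
    ρ (a * b) *ᵥ w = ρ a *ᵥ (ρ b *ᵥ w) := by
  rw [map_mul, Matrix.mulVec_mulVec]

theorem Ad.v_ne_zero (a : Ad U h ρ v φ l) : v ≠ 0 := by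
  rintro rfl
  have := a.one
  rw [dotProduct_zero] at this
  exact zero_ne_one this

theorem Ad.φ_ne_zero (a : Ad U h ρ v φ l) : φ ≠ 0 := by
  rintro rfl
  have := a.one
  rw [zero_dotProduct] at this
  exact zero_ne_one this

theorem Ad.l_ne_zero (a : Ad U h ρ v φ l) : l ≠ 0 := by
  intro hl
  have h1 := a.hv
  rw [hl, zero_smul] at h1
  have h2 : ρ h⁻¹ *ᵥ (ρ h *ᵥ v) = v := by rw [← rho_mulVec, inv_mul_cancel, map_one, Matrix.one_mulVec]
  rw [h1, Matrix.mulVec_zero] at h2
  exact a.v_ne_zero h2.symm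

theorem Ad.pow_v (a : Ad U h ρ v φ l) (k : ℕ) : ρ (h ^ k) *ᵥ v = l ^ k • v := by
  induction k with
  | zero => simp
  | succ k ih => rw [pow_succ, rho_mulVec, a.hv, Matrix.mulVec_smul, ih, smul_smul, pow_succ, mul_comm]

theorem Ad.contra (a : Ad U h ρ v φ l) : Ad U h (contra ρ) φ v l⁻¹ := by
  have key : ∀ (g : G) (ψ w : ι → A), w ⬝ᵥ (H906.contra ρ g *ᵥ ψ) = ψ ⬝ᵥ (ρ g⁻¹ *ᵥ w) := by
    intro g ψ w
    rw [contra_apply, Matrix.mulVec_transpose, dotProduct_comm, Matrix.dotProduct_mulVec]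
  have hui : ∀ u ∈ U, ∀ w, φ ⬝ᵥ (ρ u⁻¹ *ᵥ w) = φ ⬝ᵥ w := fun u hu w => a.uφ _ (U.inv_mem hu) w
  have hhi : ∀ w, φ ⬝ᵥ (ρ h⁻¹ *ᵥ w) = l⁻¹ * (φ ⬝ᵥ w) := by
    intro w
    have h1 := a.hφ (ρ h⁻¹ *ᵥ w)
    rw [← rho_mulVec, mul_inv_cancel, map_one, Matrix.one_mulVec] at h1
    rw [h1, inv_mul_cancel_left₀ a.l_ne_zero]
  have hvi : ρ h⁻¹ *ᵥ v = l⁻¹ • v := by
    have h2 : ρ h⁻¹ *ᵥ (ρ h *ᵥ v) = v := by rw [← rho_mulVec, inv_mul_cancel, map_one, Matrix.one_mulVec]
    rw [a.hv, Matrix.mulVec_smul] at h2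
    rw [← h2, smul_smul, inv_mul_cancel₀ a.l_ne_zero, one_smul, h2]
  refine ⟨by rw [dotProduct_comm]; exact a.one, ?_, ?_, ?_, ?_⟩
  · intro u hu
    funext i
    have h1 := key u φ (Pi.single i 1)
    rw [hui u hu, single_one_dotProduct, dotProduct_single_one] at h1
    exact h1
  · funext i
    have h1 := key h φ (Pi.single i 1)
    rw [hhi, single_one_dotProduct, dotProduct_single_one] at h1
    exact h1
  · intro u hu w
    rw [key, a.uv _ (U.inv_mem hu), dotProduct_comm]
  · intro w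
    rw [key, hvi, dotProduct_smul, smul_eq_mul, dotProduct_comm]

theorem Ad.twist (a : Ad U h ρ v φ l) (σ : A ≃+* A) : Ad U h (twist σ ρ) (σ ∘ v) (σ ∘ φ) (σ l) := by
  have hc : ∀ (g : G) (w : ι → A), H906.twist σ ρ g *ᵥ (σ ∘ w) = σ ∘ (ρ g *ᵥ w) := fun g w => by
    rw [twist_apply, comp_mulVec]
  have hw : ∀ w : ι → A, ∃ w', w = σ ∘ w' := fun w => ⟨σ.symm ∘ w, by
    funext i
    simp⟩
  refine ⟨?_, ?_, ?_, ?_, ?_⟩
  · rw [← map_dotProduct', a.one, map_one]
  · intro u hu
    rw [hc, a.uv u hu]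
  · rw [hc, a.hv, comp_smul]
  · intro u hu w
    obtain ⟨w, rfl⟩ := hw w
    rw [hc, ← map_dotProduct', ← map_dotProduct', a.uφ u hu]
  · intro w
    obtain ⟨w, rfl⟩ := hw w
    rw [hc, ← map_dotProduct', ← map_dotProduct', a.hφ, map_mul]

end

/-- The trivial representation. -/
theorem ad_one (U : Subgroup G) (h : G) :
    Ad U h (1 : G →* Matrix (Fin 1) (Fin 1) A) (fun _ => 1) (fun _ => 1) 1 := by
  refine ⟨?_, ?_, ?_, ?_, ?_⟩ <;> simp [dotProduct]

section Compare

variable {B U : Subgroup G} {n h : G} (D : Data B U n) (hB : ∀ b ∈ B, ∃ u ∈ U, ∃ k : ℕ, b = u * h ^ k)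
variable {ι₁ ι₂ : Type} [Fintype ι₁] [DecidableEq ι₁] [Fintype ι₂] [DecidableEq ι₂] {ρ₁ : G →* Matrix ι₁ ι₁ A}
  {ρ₂ : G →* Matrix ι₂ ι₂ A} {v₁ φ₁ : ι₁ → A} {v₂ φ₂ : ι₂ → A} {l : A}

include hB in
/-- The action of `B` on the line. -/
theorem exists_char (b : G) (hb : b ∈ B) : ∃ k : ℕ, (∀ {ι : Type} [Fintype ι] [DecidableEq ι] (ρ : G →* Matrix ι ι A)
    (v φ : ι → A) (l : A), Ad U h ρ v φ l → ρ b *ᵥ v = l ^ k • v) := by
  obtain ⟨u, hu, k, rfl⟩ := hB b hb
  refine ⟨k, ?_⟩
  intro ι _ _ ρ v φ l a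
  rw [rho_mulVec, a.pow_v, Matrix.mulVec_smul, a.uv u hu]

include D hB in
/-- The value of the coefficient outside `B`. -/
theorem exists_val (g : G) (hg : g ∉ B) : ∃ k : ℕ, (∀ {ι : Type} [Fintype ι] [DecidableEq ι] (ρ : G →* Matrix ι ι A)
    (v φ : ι → A) (l : A), Ad U h ρ v φ l → φ ⬝ᵥ (ρ g *ᵥ v) = l ^ k * (φ ⬝ᵥ (ρ n *ᵥ v))) := by
  obtain ⟨s, hs, hb⟩ := D.bruhat g hg
  obtain ⟨k, hk⟩ := exists_char (A := A) hB _ hb
  refine ⟨k, ?_⟩
  intro ι _ _ ρ v φ l a
  have e : g = s * (n * ((s * n)⁻¹ * g)) := by group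
  rw [e, rho_mulVec, a.uφ s hs, rho_mulVec, hk ρ v φ l a, Matrix.mulVec_smul, dotProduct_smul, smul_eq_mul]

include D hB in
/-- **Comparison.** -/
theorem compare (a₁ : Ad U h ρ₁ v₁ φ₁ l) (a₂ : Ad U h ρ₂ v₂ φ₂ l) [Finite U]
    (hcard : Fintype.card ι₁ + Fintype.card ι₂ < Nat.card U) :
    φ₁ ⬝ᵥ (ρ₁ n *ᵥ v₁) = φ₂ ⬝ᵥ (ρ₂ n *ᵥ v₂) ∧ φ₁ ⬝ᵥ (ρ₁ n *ᵥ v₁) ≠ 0 := by
  classical
  have := Fintype.ofFinite U
  rw [Nat.card_eq_fintype_card] at hcard
  let w : U → (ι₁ → A) × (ι₂ → A) := fun u => (ρ₁ (u * n) *ᵥ v₁, ρ₂ (u * n) *ᵥ v₂)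
  have hrk : Module.finrank A ((ι₁ → A) × (ι₂ → A)) = Fintype.card ι₁ + Fintype.card ι₂ := by
    rw [Module.finrank_prod, Module.finrank_fintype_fun_eq_card, Module.finrank_fintype_fun_eq_card]
  have hnli : ¬ LinearIndependent A w := by
    intro hli
    have := hli.fintype_card_le_finrank
    rw [hrk] at this
    omega
  rw [Fintype.not_linearIndependent_iff] at hnli
  obtain ⟨r, hr, u0, hu0⟩ := hnli
  -- the values on the translates
  have hval : ∀ u : U, ∃ k : ℕ, u ≠ u0 → (∀ {ι : Type} [Fintype ι] [DecidableEq ι] (ρ : G →* Matrix ι ι A)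
      (v φ : ι → A) (l : A), Ad U h ρ v φ l →
      φ ⬝ᵥ (ρ (n⁻¹ * (u0 : G)⁻¹ * (u * n)) *ᵥ v) = l ^ k * (φ ⬝ᵥ (ρ n *ᵥ v))) := by
    intro u
    by_cases hu : u = u0
    · exact ⟨0, fun h => absurd hu h⟩
    · obtain ⟨k, hk⟩ := exists_val (A := A) D hB (n⁻¹ * (u0 : G)⁻¹ * (u * n)) (by
        intro hmem
        have h1 := D.inter ((u0 : G)⁻¹ * u) (U.mul_mem (U.inv_mem u0.2) u.2) (by
          rw [mul_assoc, mul_assoc, ← mul_assoc]
          convert hmem using 1)
        exact hu (Subtype.ext (inv_mul_eq_one.1 h1).symm))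
      exact ⟨k, fun _ => hk⟩
  choose k hk using hval
  have key : ∀ {ι : Type} [Fintype ι] [DecidableEq ι] (ρ : G →* Matrix ι ι A) (v φ : ι → A), Ad U h ρ v φ l →
      ∑ u : U, r u • (ρ (u * n) *ᵥ v) = 0 →
      r u0 + (∑ u ∈ Finset.univ.erase u0, r u * l ^ k u) * (φ ⬝ᵥ (ρ n *ᵥ v)) = 0 := by
    intro ι _ _ ρ v φ a hsum
    have h1 : φ ⬝ᵥ (ρ (n⁻¹ * (u0 : G)⁻¹) *ᵥ (∑ u : U, r u • (ρ (u * n) *ᵥ v))) = 0 := by
      rw [hsum, Matrix.mulVec_zero, dotProduct_zero]
    rw [Matrix.mulVec_sum, dotProduct_sum] at h1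
    have h2 : ∀ u : U, φ ⬝ᵥ (ρ (n⁻¹ * (u0 : G)⁻¹) *ᵥ (r u • (ρ (u * n) *ᵥ v))) =
        r u * (φ ⬝ᵥ (ρ (n⁻¹ * (u0 : G)⁻¹ * (u * n)) *ᵥ v)) := by
      intro u
      rw [Matrix.mulVec_smul, dotProduct_smul, smul_eq_mul, ← rho_mulVec]
    simp only [h2] at h1
    rw [← Finset.add_sum_erase _ _ (Finset.mem_univ u0)] at h1
    have h3 : n⁻¹ * (u0 : G)⁻¹ * (u0 * n) = 1 := by group
    rw [h3, map_one, Matrix.one_mulVec, a.one, mul_one] at h1
    rw [← h1, Finset.sum_mul]
    congr 1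
    refine Finset.sum_congr rfl fun u hu => ?_
    rw [hk u (Finset.ne_of_mem_erase hu) ρ v φ l a, mul_assoc]
  have hs1 : ∑ u : U, r u • (ρ₁ (u * n) *ᵥ v₁) = 0 := by
    have := congrArg Prod.fst hr
    rw [Prod.fst_sum] at this
    exact this
  have hs2 : ∑ u : U, r u • (ρ₂ (u * n) *ᵥ v₂) = 0 := by
    have := congrArg Prod.snd hr
    rw [Prod.snd_sum] at this
    exact this
  have e1 := key ρ₁ v₁ φ₁ a₁ hs1
  have e2 := key ρ₂ v₂ φ₂ a₂ hs2
  set R := ∑ u ∈ Finset.univ.erase u0, r u * l ^ k u with hR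
  have hR0 : R ≠ 0 := by
    intro h0
    rw [h0, zero_mul, add_zero] at e1
    exact hu0 e1
  refine ⟨mul_left_cancel₀ hR0 (add_left_cancel (e1.trans e2.symm)), ?_⟩
  intro h0
  rw [h0, mul_zero, add_zero] at e1
  exact hu0 e1

include D hB in
/-- Two spanning representations of the same small degree with the same character have equal traces. -/
theorem trace_eq {ρ₁' : G →* Matrix ι₁ ι₁ A} {v₁' φ₁' : ι₁ → A}
    (h₁ : Submodule.span A (Set.range ρ₁) = ⊤) (h₂ : Submodule.span A (Set.range ρ₁') = ⊤)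
    (a₁ : Ad U h ρ₁ v₁ φ₁ l) (a₂ : Ad U h ρ₁' v₁' φ₁' l) [Finite U]
    (hcard : Fintype.card ι₁ + Fintype.card ι₁ < Nat.card U) (g : G) : (ρ₁' g).trace = (ρ₁ g).trace := by
  obtain ⟨hc, -⟩ := compare D hB a₁ a₂ hcard
  refine trace_eq_of_conj (exists_conj_of_functional ρ₁ ρ₁' h₁ h₂ (coef φ₁ v₁) (coef φ₁' v₁')
    (coef_ne_zero a₁.φ_ne_zero a₁.v_ne_zero) (coef_ne_zero a₂.φ_ne_zero a₂.v_ne_zero) ?_) g
  intro g
  change φ₁ ⬝ᵥ (ρ₁ g *ᵥ v₁) = φ₁' ⬝ᵥ (ρ₁' g *ᵥ v₁')
  by_cases hg : g ∈ B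
  · obtain ⟨k, hk⟩ := exists_char (A := A) hB g hg
    rw [hk ρ₁ v₁ φ₁ l a₁, hk ρ₁' v₁' φ₁' l a₂, dotProduct_smul, dotProduct_smul, a₁.one, a₂.one]
  · obtain ⟨k, hk⟩ := exists_val (A := A) D hB g hg
    rw [hk ρ₁ v₁ φ₁ l a₁, hk ρ₁' v₁' φ₁' l a₂, hc]

include D hB in
/-- The character on the torus is fixed by the Weyl element. -/
theorem pow_eq_one (a₁ : Ad U h ρ₁ v₁ φ₁ l) [Finite U] (hcard : Fintype.card ι₁ + Fintype.card ι₁ < Nat.card U)
    {m : ℕ} (hm : n⁻¹ * h * n = (h ^ m)⁻¹) : l ^ (m + 1) = 1 := by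
  obtain ⟨-, hc⟩ := compare D hB a₁ a₁ hcard
  have e1 : φ₁ ⬝ᵥ (ρ₁ (h * n) *ᵥ v₁) = l * (φ₁ ⬝ᵥ (ρ₁ n *ᵥ v₁)) := by
    rw [rho_mulVec, a₁.hφ]
  have e2 : h * n * h ^ m = n := by
    have : h * n = n * (h ^ m)⁻¹ := by rw [← hm]; group
    rw [this, inv_mul_cancel_right]
  have e3 : φ₁ ⬝ᵥ (ρ₁ (h * n * h ^ m) *ᵥ v₁) = l ^ m * (φ₁ ⬝ᵥ (ρ₁ (h * n) *ᵥ v₁)) := by
    rw [rho_mulVec, a₁.pow_v, Matrix.mulVec_smul, dotProduct_smul, smul_eq_mul]
  rw [e2, e1, ← mul_assoc, ← pow_succ] at e3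
  exact (mul_right_cancel₀ hc (by rw [one_mul]; exact e3)).symm

include D hB in
/-- The character on the torus is not trivial. -/
theorem ne_one (h₁ : Submodule.span A (Set.range ρ₁) = ⊤) (a₁ : Ad U h ρ₁ v₁ φ₁ l) [Finite U]
    (hcard : Fintype.card ι₁ + 1 < Nat.card U) (h2 : 1 < Fintype.card ι₁) : l ≠ 1 := by
  rintro rfl
  obtain ⟨hc, -⟩ := compare D hB a₁ (ad_one U h) (by simpa only [_root_.Fintype.card_unique] using hcard)
  have hc' : φ₁ ⬝ᵥ (ρ₁ n *ᵥ v₁) = 1 := by rw [hc]; simp [dotProduct]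
  have hf : ∀ g, coef φ₁ v₁ (ρ₁ g) = 1 := by
    intro g
    change φ₁ ⬝ᵥ (ρ₁ g *ᵥ v₁) = 1
    by_cases hg : g ∈ B
    · obtain ⟨k, hk⟩ := exists_char (A := A) hB g hg
      rw [hk ρ₁ v₁ φ₁ 1 a₁, dotProduct_smul, a₁.one, one_pow, one_smul]
    · obtain ⟨k, hk⟩ := exists_val (A := A) D hB g hg
      rw [hk ρ₁ v₁ φ₁ 1 a₁, hc', one_pow, one_mul]
  have hone : ∀ g, ρ₁ g = 1 := by
    intro g
    rw [← sub_eq_zero]
    refine eq_zero_of_functional (coef φ₁ v₁) (coef_ne_zero a₁.φ_ne_zero a₁.v_ne_zero) ?_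
    intro X Y
    have hX : X ∈ Submodule.span A (Set.range ρ₁) := by rw [h₁]; trivial
    have hY : Y ∈ Submodule.span A (Set.range ρ₁) := by rw [h₁]; trivial
    induction hX using Submodule.span_induction with
    | mem X hX =>
      obtain ⟨a, rfl⟩ := hX
      induction hY using Submodule.span_induction with
      | mem Y hY =>
        obtain ⟨b, rfl⟩ := hY
        rw [mul_sub, sub_mul, mul_one, ← map_mul, ← map_mul, ← map_mul, map_sub, hf, hf, sub_self]
      | zero => rw [mul_zero, map_zero]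
      | add x y _ _ hx hy => rw [mul_add, map_add, hx, hy, add_zero]
      | smul c x _ hx => rw [mul_smul_comm, map_smul, hx, smul_zero]
    | zero => rw [zero_mul, zero_mul, map_zero]
    | add x y _ _ hx hy => rw [add_mul, add_mul, map_add, hx, hy, add_zero]
    | smul c x _ hx => rw [smul_mul_assoc, smul_mul_assoc, map_smul, hx, smul_zero]
  have hle : Submodule.span A (Set.range ρ₁) ≤ A ∙ (1 : Matrix ι₁ ι₁ A) := by
    rw [Submodule.span_le]
    rintro _ ⟨g, rfl⟩
    rw [hone g]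
    exact Submodule.mem_span_singleton_self _
  obtain ⟨i, j, hij⟩ := Fintype.one_lt_card_iff.1 h2
  have h3 : Matrix.single i j (1 : A) ∈ A ∙ (1 : Matrix ι₁ ι₁ A) := hle (by rw [h₁]; trivial)
  obtain ⟨c, hc⟩ := Submodule.mem_span_singleton.1 h3
  have h4 := congrFun (congrFun hc i) j
  rw [Matrix.smul_apply, Matrix.one_apply_ne hij, smul_zero, Matrix.single_apply_same] at h4
  exact zero_ne_one h4

end Compare

end Cfsg.Agent.H659.BorelCoef
end

-- part: H659/HeisLine
section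
/-!
# The fixed line of a Heisenberg group of order 27 in a 7-dimensional representation
-/

set_option autoImplicit false

namespace Cfsg.Agent.H659.HeisLine

open Module Cfsg.Agent.H659.Triple Cfsg.Agent.H659.BorelCoef
open scoped MatrixGroups Matrix

variable {A : Type*} [Field A] {V : Type*} [AddCommGroup V] [Module A V] [FiniteDimensional A V] {G : Type*} [Group G]

omit [FiniteDimensional A V] in
theorem mul_app (ρ : G →* Module.End A V) (a b : G) (v : V) : ρ a (ρ b v) = ρ (a * b) v := by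
  rw [map_mul, Module.End.mul_apply]

/-- Dimensions of the eigenspaces of an operator of order 3. -/
theorem sum_eigen [IsAlgClosed A] {T : Module.End A V} (hT : T ^ 3 = 1) (h3 : (3 : A) ≠ 0) {ω : A}
    (h : ω ^ 2 + ω + 1 = 0) (h1 : ω ≠ 1) (hω : ω ^ 3 = 1) :
    ∑ a : Fin 3, finrank A (T.eigenspace (ω ^ a.val)) = finrank A V := by
  classical
  have hinj : Function.Injective (fun a : Fin 3 => ω ^ a.val) := fun a b hab => pow_inj_fin h h1 hω hab
  have hind : iSupIndep (fun a : Fin 3 => T.eigenspace (ω ^ a.val)) :=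
    (Module.End.eigenspaces_iSupIndep T).comp hinj
  have htop : ⨆ a : Fin 3, T.eigenspace (ω ^ a.val) = ⊤ := by
    rw [eq_top_iff, ← Module.End.iSup_maxGenEigenspace_eq_top T]
    refine iSup_le fun μ => ?_
    rw [H912.Bd.maxGen_eq (K := A) (N := 3) (by exact_mod_cast h3) hT]
    by_cases hbot : T.eigenspace μ = ⊥
    · rw [hbot]; exact bot_le
    · obtain ⟨v, hv, hv0⟩ := Submodule.exists_mem_ne_zero_of_ne_bot hbot
      obtain ⟨a, ha⟩ := exists_pow h hω (pow_eigen hT hv0 (Module.End.mem_eigenspace_iff.1 hv))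
      rw [ha]
      exact le_iSup (fun a : Fin 3 => T.eigenspace (ω ^ a.val)) a
  have hi := DirectSum.isInternal_submodule_of_iSupIndep_of_iSup_eq_top hind htop
  have e := (LinearEquiv.ofBijective (DirectSum.coeLinearMap (fun a : Fin 3 => T.eigenspace (ω ^ a.val))) hi).finrank_eq
  rw [← e, Module.finrank_directSum]

/-- If `x y = z y x` and `z` acts by `ω` on an invariant subspace `D` then `ω ^ dim D = 1`. -/
theorem pow_finrank (ρ : G →* Module.End A V) {x y z : G} (hxy : x * y = z * (y * x)) {ω : A} (D : Submodule A V)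
    (hx : ∀ v ∈ D, ρ x v ∈ D) (hx' : ∀ v ∈ D, ρ x⁻¹ v ∈ D) (hy : ∀ v ∈ D, ρ y v ∈ D) (hy' : ∀ v ∈ D, ρ y⁻¹ v ∈ D)
    (hz : ∀ v ∈ D, ρ z v = ω • v) : ω ^ finrank A D = 1 := by
  set X := (ρ x).restrict hx with hX
  set Y := (ρ y).restrict hy with hY
  have e1 : X * Y = ω • (Y * X) := by
    ext v
    have h1 : ρ x (ρ y (v : V)) = ω • ρ y (ρ x (v : V)) := by
      rw [mul_app, hxy, ← mul_app, hz _ (by rw [← mul_app]; exact hy _ (hx _ v.2)), ← mul_app]
    exact h1
  have e2 : ((ρ x⁻¹).restrict hx') * X = 1 := by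
    ext v
    have h1 : ρ x⁻¹ (ρ x (v : V)) = v := by
      rw [mul_app, inv_mul_cancel, map_one, Module.End.one_apply]
    exact h1
  have e3 : ((ρ y⁻¹).restrict hy') * Y = 1 := by
    ext v
    have h1 : ρ y⁻¹ (ρ y (v : V)) = v := by
      rw [mul_app, inv_mul_cancel, map_one, Module.End.one_apply]
    exact h1
  have d1 : LinearMap.det X ≠ 0 := by
    intro h0
    have := congrArg LinearMap.det e2
    rw [map_mul, h0, mul_zero, map_one] at this
    exact zero_ne_one this
  have d2 : LinearMap.det Y ≠ 0 := by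
    intro h0
    have := congrArg LinearMap.det e3
    rw [map_mul, h0, mul_zero, map_one] at this
    exact zero_ne_one this
  have e4 := congrArg LinearMap.det e1
  rw [LinearMap.det_smul, map_mul, map_mul, mul_comm (LinearMap.det X)] at e4
  exact (mul_right_cancel₀ (mul_ne_zero d2 d1) (by rw [one_mul]; exact e4)).symm

/-- Group data: `U` a Heisenberg group of order 27 with centre generated by `z`, `h` inverts `z`. -/
structure HData (U : Subgroup G) (h z x y : G) : Prop where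
  zU : z ∈ U
  xU : x ∈ U
  yU : y ∈ U
  z3 : z ^ 3 = 1
  cent : ∀ u ∈ U, z * u = u * z
  xy : x * y = z * (y * x)
  hz : h * z = z⁻¹ * h
  comm : ∀ u ∈ U, ∃ t ∈ U, ∃ k : ℕ, u = h * t * h⁻¹ * t⁻¹ * z ^ k

variable {U : Subgroup G} {h z x y : G}

/-- The fixed line. -/
theorem exists_line [IsAlgClosed A] (h3 : (3 : A) ≠ 0) (H : HData U h z x y) (ρ : G →* Module.End A V)
    (hV : finrank A V = 7) (hz : ρ z ≠ 1) : ∃ v : V, v ≠ 0 ∧ ρ z v = v ∧ (∀ w, ρ z w = w → ∃ c : A, w = c • v) ∧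
      (∀ u ∈ U, ρ u v = v) ∧ ∃ l : A, ρ h v = l • v := by
  obtain ⟨ω, hω, h1, hω3⟩ := exists_omega h3
  set T := ρ z with hT
  have hT3 : T ^ 3 = 1 := by rw [hT, ← map_pow, H.z3, map_one]
  have hsum := sum_eigen hT3 h3 hω h1 hω3
  rw [hV, Fin.sum_univ_three] at hsum
  change finrank A (T.eigenspace (ω ^ 0)) + finrank A (T.eigenspace (ω ^ 1)) + finrank A (T.eigenspace (ω ^ 2)) = 7 at hsum
  rw [pow_zero, pow_one] at hsum
  have hUD : ∀ (μ : A) (u : G), u ∈ U → ∀ v ∈ T.eigenspace μ, ρ u v ∈ T.eigenspace μ := by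
    intro μ u hu v hv
    rw [Module.End.mem_eigenspace_iff] at hv ⊢
    rw [hT, mul_app, H.cent u hu, ← mul_app, ← hT, hv, map_smul]
  have hzh : z * h = h * z⁻¹ := by
    have := H.hz
    have e : z * (h * z) * z⁻¹ = z * (z⁻¹ * h) * z⁻¹ := by rw [this]
    simpa only [mul_assoc, _root_.mul_inv_cancel, _root_.mul_one, _root_.mul_inv_cancel_left] using e
  have hzinv : ∀ (μ : A) (v : V), μ ^ 3 = 1 → T v = μ • v → ρ z⁻¹ v = (μ ^ 2) • v := by
    intro μ v hμ hv
    have e : z⁻¹ = z * z := by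
      rw [inv_eq_iff_mul_eq_one, ← pow_two, ← pow_succ']
      exact H.z3
    rw [e, ← mul_app, ← hT, hv, map_smul, hv, smul_smul, pow_two]
  have hhD : ∀ (μ : A), μ ^ 3 = 1 → ∀ v ∈ T.eigenspace μ, ρ h v ∈ T.eigenspace (μ ^ 2) := by
    intro μ hμ v hv
    rw [Module.End.mem_eigenspace_iff] at hv ⊢
    rw [hT, mul_app, hzh, ← mul_app, hzinv μ v hμ hv, map_smul]
  have hd12 : finrank A (T.eigenspace ω) ≤ finrank A (T.eigenspace (ω ^ 2)) :=
    SevenU42.finrank_le_of_maps ρ h (hhD ω hω3)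
  have hd21 : finrank A (T.eigenspace (ω ^ 2)) ≤ finrank A (T.eigenspace ω) := by
    refine SevenU42.finrank_le_of_maps ρ h ?_
    intro v hv
    have := hhD (ω ^ 2) (by rw [← pow_mul, mul_comm, pow_mul, hω3, one_pow]) v hv
    have e : (ω ^ 2) ^ 2 = ω := by linear_combination ω * hω3
    rwa [e] at this
  have h3d : 3 ∣ finrank A (T.eigenspace ω) := by
    have h4 := pow_finrank ρ H.xy (ω := ω) (T.eigenspace ω) (hUD ω x H.xU) (hUD ω x⁻¹ (U.inv_mem H.xU))
      (hUD ω y H.yU) (hUD ω y⁻¹ (U.inv_mem H.yU)) (fun v hv => Module.End.mem_eigenspace_iff.1 hv)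
    have h5 : orderOf ω = 3 := orderOf_eq_prime hω3 h1
    rw [← h5]
    exact orderOf_dvd_of_pow_eq_one h4
  have hd1 : finrank A (T.eigenspace ω) ≠ 0 := by
    intro h0
    apply hz
    have h7 : finrank A (T.eigenspace (1 : A)) = finrank A V := by (clear * - hV hsum hd21 h0; omega)
    have h8 := Submodule.eq_top_of_finrank_eq h7
    ext v
    have h9 : v ∈ T.eigenspace (1 : A) := by rw [h8]; trivial
    rw [Module.End.mem_eigenspace_iff, one_smul] at h9
    rw [h9, Module.End.one_apply]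
  have hd0 : finrank A (T.eigenspace (1 : A)) = 1 := by omega
  obtain ⟨⟨v, hv⟩, hv0, hv1⟩ := finrank_eq_one_iff'.1 hd0
  have hv0' : v ≠ 0 := fun h => hv0 (Subtype.ext h)
  have hTv : T v = v := by
    have := Module.End.mem_eigenspace_iff.1 hv
    rwa [one_smul] at this
  have hline : ∀ w, T w = w → ∃ c : A, w = c • v := by
    intro w hw
    obtain ⟨c, hc⟩ := hv1 ⟨w, by rw [Module.End.mem_eigenspace_iff, one_smul]; exact hw⟩
    exact ⟨c, (congrArg Subtype.val hc).symm⟩
  have hzk : ∀ k : ℕ, ρ (z ^ k) v = v := by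
    intro k
    induction k with
    | zero => rw [pow_zero, map_one, Module.End.one_apply]
    | succ k ih => rw [pow_succ, ← mul_app, ← hT, hTv, ih]
  have hUl : ∀ u ∈ U, ∃ c : A, ρ u v = c • v := by
    intro u hu
    apply hline
    rw [hT, mul_app, H.cent u hu, ← mul_app, ← hT, hTv]
  have hhl : ∃ c : A, ρ h v = c • v := by
    apply hline
    have h4 : ρ z⁻¹ v = v := by
      have := hzinv 1 v (one_pow 3) (by rw [one_smul]; exact hTv)
      rwa [one_pow, one_smul] at this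
    rw [hT, mul_app, hzh, ← mul_app, h4]
  refine ⟨v, hv0', hTv, hline, ?_, hhl⟩
  obtain ⟨l, hl⟩ := hhl
  intro u hu
  obtain ⟨t, ht, k, rfl⟩ := H.comm u hu
  obtain ⟨c, hc⟩ := hUl t⁻¹ (U.inv_mem ht)
  have hc0 : ρ t v = c⁻¹ • v := by
    have h5 : ρ t (ρ t⁻¹ v) = v := by rw [mul_app, mul_inv_cancel, map_one, Module.End.one_apply]
    have hcne : c ≠ 0 := by
      rintro rfl
      rw [hc, zero_smul, map_zero] at h5
      exact hv0' h5.symm
    rw [hc, map_smul] at h5
    rw [← h5, smul_smul, inv_mul_cancel₀ hcne, one_smul, h5]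
  have hlne : l ≠ 0 := by
    rintro rfl
    have h5 : ρ h⁻¹ (ρ h v) = v := by rw [mul_app, inv_mul_cancel, map_one, Module.End.one_apply]
    rw [hl, zero_smul, map_zero] at h5
    exact hv0' h5.symm
  have hli : ρ h⁻¹ v = l⁻¹ • v := by
    have h5 : ρ h⁻¹ (ρ h v) = v := by rw [mul_app, inv_mul_cancel, map_one, Module.End.one_apply]
    rw [hl, map_smul] at h5
    rw [← h5, smul_smul, inv_mul_cancel₀ hlne, one_smul, h5]
  have hcne : c ≠ 0 := by
    rintro rfl
    have h5 : ρ t (ρ t⁻¹ v) = v := by rw [mul_app, mul_inv_cancel, map_one, Module.End.one_apply]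
    rw [hc, zero_smul, map_zero] at h5
    exact hv0' h5.symm
  rw [← mul_app, hzk, ← mul_app, hc, map_smul, ← mul_app, hli, map_smul, ← mul_app, hc0, map_smul, hl]
  simp only [smul_smul]
  have : c * (l⁻¹ * (c⁻¹ * l)) = 1 := by field_simp
  rw [this, one_smul]

/-- From the fixed line to the adapted pair. -/
theorem exists_ad [IsAlgClosed A] (h3 : (3 : A) ≠ 0) (H : HData U h z x y) (ρ : G →* Matrix (Fin 7) (Fin 7) A)
    (hz : ρ z ≠ 1) : ∃ (v φ : Fin 7 → A) (l : A), Ad U h ρ v φ l := by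
  classical
  let ρE : G →* Module.End A (Fin 7 → A) := (Matrix.toLinAlgEquiv' (R := A) (n := Fin 7)).toMonoidHom.comp ρ
  have hρE : ∀ g (w : Fin 7 → A), ρE g w = ρ g *ᵥ w := fun _ _ => rfl
  obtain ⟨v, hv0, hzv, hline, hUv, l, hl⟩ := exists_line h3 H ρE (by simp) (by
    intro h0
    apply hz
    apply (Matrix.toLinAlgEquiv' (R := A) (n := Fin 7)).injective
    rw [map_one]
    exact h0)
  obtain ⟨i, hi⟩ : ∃ i, v i ≠ 0 := by
    by_contra hcon
    push Not at hcon
    exact hv0 (funext hcon)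
  -- the projection
  set e : Matrix (Fin 7) (Fin 7) A := (3 : A)⁻¹ • (1 + ρ z + ρ (z * z)) with he
  have hcomm : ∀ g : G, (z * g = g * z ∨ z * g = g * z⁻¹) → e * ρ g = ρ g * e := by
    intro g hg
    have hzz : z⁻¹ = z * z := by
      rw [inv_eq_iff_mul_eq_one, ← pow_two, ← pow_succ']
      exact H.z3
    rw [he, smul_mul_assoc, mul_smul_comm]
    congr 1
    rw [add_mul, add_mul, mul_add, mul_add, one_mul, mul_one, ← map_mul, ← map_mul, ← map_mul, ← map_mul]
    rcases hg with hg | hg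
    · rw [hg]
      congr 2
      rw [mul_assoc, hg, ← mul_assoc, hg, mul_assoc]
    · have h4 : z * z * g = g * z := by
        rw [mul_assoc, hg, ← mul_assoc, hg, mul_assoc, ← _root_.mul_inv_rev, ← hzz, inv_inv]
      rw [hg, h4, hzz]
      abel
  have hez : ρ z * e = e := by
    rw [he, mul_smul_comm]
    congr 1
    have h4 : ρ (z * (z * z)) = 1 := by
      rw [← pow_two, ← pow_succ', H.z3, map_one]
    rw [mul_add, mul_add, mul_one, ← map_mul, ← map_mul, h4]
    abel
  have hev : e *ᵥ v = v := by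
    have h4 : ρ z *ᵥ v = v := hzv
    rw [he, Matrix.smul_mulVec, Matrix.add_mulVec, Matrix.add_mulVec, Matrix.one_mulVec, rho_mulVec, h4, h4]
    have : v + v + v = (3 : A) • v := by
      rw [show (3 : A) = 1 + 1 + 1 by norm_num, add_smul, add_smul, one_smul]
    rw [this, smul_smul, inv_mul_cancel₀ h3, one_smul]
  let φ : Fin 7 → A := fun j => (v i)⁻¹ * e i j
  have hφ : ∀ w : Fin 7 → A, φ ⬝ᵥ w = (v i)⁻¹ * (e *ᵥ w) i := by
    intro w
    simp only [φ, dotProduct, Matrix.mulVec, Finset.mul_sum, mul_assoc]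
  have hew : ∀ w : Fin 7 → A, e *ᵥ w = (φ ⬝ᵥ w) • v := by
    intro w
    obtain ⟨c, hc⟩ := hline (e *ᵥ w) (by
      rw [hρE, Matrix.mulVec_mulVec, hez])
    rw [hφ, hc]
    congr 1
    rw [Pi.smul_apply, smul_eq_mul, mul_comm, mul_assoc, mul_inv_cancel₀ hi, mul_one]
  have hinj : ∀ a b : A, a • v = b • v → a = b := by
    intro a b hab
    have : (a - b) • v = 0 := by rw [sub_smul, hab, sub_self]
    exact sub_eq_zero.1 ((smul_eq_zero.1 this).resolve_right hv0)
  have hzh : z * h = h * z⁻¹ := by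
    have := H.hz
    have e : z * (h * z) * z⁻¹ = z * (z⁻¹ * h) * z⁻¹ := by rw [this]
    simpa only [mul_assoc, _root_.mul_inv_cancel, _root_.mul_one, _root_.mul_inv_cancel_left] using e
  refine ⟨v, φ, l, ?_, hUv, hl, ?_, ?_⟩
  · rw [hφ, hev, inv_mul_cancel₀ hi]
  · intro u hu w
    apply hinj
    rw [← hew, Matrix.mulVec_mulVec, hcomm u (Or.inl (H.cent u hu)), ← Matrix.mulVec_mulVec, hew, Matrix.mulVec_smul]
    have : ρ u *ᵥ v = v := hUv u hu
    rw [this]
  · intro w
    apply hinj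
    rw [← hew, Matrix.mulVec_mulVec, hcomm h (Or.inr hzh), ← Matrix.mulVec_mulVec, hew, Matrix.mulVec_smul]
    have : ρ h *ᵥ v = l • v := hl
    rw [this, smul_smul, mul_comm]

end Cfsg.Agent.H659.HeisLine
end
end

-- part: H659/SevenU33
section
prune_inst 0x7f0054044400822000000000504120000044c00059000000000884002400200c00204000040108001061a0aa0100009000011cc0050424000000e000400001c0000008012049008a000000000000080000000000000000000000000000000000004000000000
set_option linter.all false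
open scoped Cfsg.Agent.FastGrp

/-!
# The 7-dimensional representations of `PSU₃(3)` in characteristic ≠ 3
-/

set_option autoImplicit false

namespace Cfsg.Agent.H659.SevenU33

open Cfsg.Agent.UThreeGen.MatGroup Cfsg.Agent.H906 Cfsg.Agent.H659.BorelCoef Cfsg.Agent.H659.HeisLine
open scoped MatrixGroups Matrix

section Group

variable {K : Type*} [Field K] {σ : K →+* K} [hσ : Fact (∀ x, σ (σ x) = x)]

/-- Conjugation by a torus element. -/
theorem tor_conj (c : Kˣ) (x y : HG σ) (ha : y.a = (c : K) ^ 2 * (σ (c : K))⁻¹ * x.a)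
    (hb : y.b = (c : K) * σ (c : K) * x.b) : tor σ c * emb σ x * (tor σ c)⁻¹ = emb σ y := by
  rw [mul_inv_eq_iff_eq_mul]
  apply Subtype.ext
  apply Subtype.ext
  have h0 : (c : K) ≠ 0 := c.ne_zero
  have h1 : σ (c : K) ≠ 0 := (map_ne_zero σ).2 h0
  have hsa : σ y.a = (σ (c : K)) ^ 2 * (c : K)⁻¹ * σ x.a := by
    rw [ha, map_mul, map_mul, map_pow, map_inv₀, sig]
  change (tor σ c).1.1 * (emb σ x).1.1 = (emb σ y).1.1 * (tor σ c).1.1
  rw [tor_val, emb_val, emb_val, umat, umat, hsa, ha, hb]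
  ext i j
  (revert i j; simp only [Matrix.mul_apply, Fin.sum_univ_three, _root_.Fin.forall_fin_succ, _root_.Matrix.of_apply, _root_.Matrix.cons_val', _root_.Matrix.cons_val_fin_one, Fin.isValue, _root_.Matrix.cons_val_zero, _root_.Matrix.cons_val_one, _root_.Matrix.cons_val, _root_.mul_one, _root_.MulZeroClass.mul_zero, _root_.add_zero, _root_.Matrix.cons_val_succ, _root_.zero_add, _root_.forall_const, _root_.one_mul, _root_.MulZeroClass.zero_mul, _root_.true_and, _root_.and_self, _root_.implies_true, _root_.and_true]) <;> (repeat' with_reducible apply And.intro) <;> field_simp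

variable [Finite K] (hs : ∀ x, σ x = x ^ 3) (hK : Nat.card K = 3 ^ 2)

include hs hK in
theorem exists_hdata : ∃ (h : SUG σ) (z x y : HG σ), z ≠ 1 ∧ HData (emb σ).range h (emb σ z) (emb σ x) (emb σ y) ∧
    (∀ b ∈ _root_.Cfsg.Agent.UThreeGen.MatGroup.borel σ, ∃ u ∈ (emb σ).range, ∃ k : ℕ, b = u * h ^ k) ∧ (wel σ)⁻¹ * h * wel σ = (h ^ 3)⁻¹ := by
  classical
  obtain ⟨a0, ha0⟩ := IsCyclic.exists_generator (α := Kˣ)
  have hord : orderOf a0 = 8 := by
    rw [orderOf_eq_card_of_forall_mem_zpowers ha0, Nat.card_units, hK]; norm_num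
  have ha04 : (a0 : K) ^ 4 = -1 := by
    have h1 : ((a0 : K) ^ 4 - 1) * ((a0 : K) ^ 4 + 1) = 0 := by
      have h2 : a0 ^ 8 = 1 := by rw [← hord]; exact pow_orderOf_eq_one a0
      have h3 := congrArg Units.val h2
      rw [Units.val_pow_eq_pow_val, Units.val_one] at h3
      linear_combination h3
    rcases mul_eq_zero.1 h1 with h2 | h2
    · exfalso
      have h3 : a0 ^ 4 = 1 := Units.ext (by rw [Units.val_pow_eq_pow_val, Units.val_one]; exact sub_eq_zero.1 h2)
      have h4 := orderOf_dvd_of_pow_eq_one h3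
      rw [hord] at h4
      norm_num at h4
    · exact eq_neg_of_add_eq_zero_left h2
  have h3K : (3 : K) = 0 := by
    have h1 : ((Nat.card K : ℕ) : K) = 0 := by
      have := Fintype.ofFinite K
      rw [Nat.card_eq_fintype_card]
      exact Nat.cast_card_eq_zero K
    rw [hK] at h1
    have h2 : (3 : K) ^ 2 = 0 := by exact_mod_cast h1
    exact pow_eq_zero_iff (two_ne_zero) |>.1 h2
  have hne0 : (a0 : K) ≠ 0 := a0.ne_zero
  have h1ne : (-1 : K) ≠ 1 := by
    intro h
    have h2 : (1 : K) = 0 := by linear_combination h3K + h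
    exact one_ne_zero h2
  have ha01 : (a0 : K) ≠ 1 := by
    intro h
    rw [h, one_pow] at ha04
    exact h1ne ha04.symm
  have ha02 : (a0 : K) ^ 2 ≠ 1 := by
    intro h
    apply h1ne
    rw [← ha04]
    linear_combination ((a0 : K) ^ 2 + 1) * h
  obtain ⟨x, hx⟩ := aHom_surjective (σ := σ) (by norm_num) hs hK 1
  obtain ⟨y, hy⟩ := aHom_surjective (σ := σ) (by norm_num) hs hK (a0 : K)
  obtain ⟨z, hxy⟩ : ∃ z : HG σ, x * y = z * (y * x) := ⟨x * y * (y * x)⁻¹, by group⟩
  have hza : z.a = 0 := by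
    have := congrArg HG.a hxy
    rw [mul_a, mul_a, mul_a] at this
    linear_combination -this
  have hzb : z.b = (a0 : K) ^ 3 - a0 := by
    have := congrArg HG.b hxy
    rw [mul_b, mul_b, mul_b, hza, hx, hy, map_one, hs] at this
    linear_combination -this
  have hzb0 : z.b ≠ 0 := by
    rw [hzb]
    intro h
    apply ha02
    have : (a0 : K) * ((a0 : K) ^ 2 - 1) = 0 := by linear_combination h
    exact sub_eq_zero.1 ((mul_eq_zero.1 this).resolve_left hne0)
  have hsz : σ z.b = -z.b := by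
    have := z.h
    rw [hza, zero_mul] at this
    linear_combination this
  have hzpow : ∀ k : ℕ, (z ^ k).a = 0 ∧ (z ^ k).b = k * z.b := by
    intro k
    induction k with
    | zero => rw [pow_zero]; constructor <;> simp [one_a]
    | succ k ih =>
      rw [pow_succ, mul_a, mul_b, ih.1, ih.2, hza]
      constructor
      · ring
      · rw [map_zero]; push_cast; ring
  have hpowh : ∀ k : ℕ, (tor σ a0) ^ k = tor σ (a0 ^ k) := fun k => (map_pow _ _ _).symm
  have hs0 : σ (a0 : K) = (a0 : K) ^ 3 := hs _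
  refine ⟨tor σ a0, z, x, y, ?_, ?_, ?_, ?_⟩
  · rintro h
    rw [h, one_b] at hzb0
    exact hzb0 rfl
  · refine ⟨⟨z, rfl⟩, ⟨x, rfl⟩, ⟨y, rfl⟩, ?_, ?_, ?_, ?_, ?_⟩
    · rw [← map_pow, ← map_one (emb σ)]
      congr 1
      ext
      · exact (hzpow 3).1
      · rw [(hzpow 3).2]
        change ((3 : ℕ) : K) * z.b = 0
        push_cast
        rw [h3K, zero_mul]
    · rintro _ ⟨u, rfl⟩
      rw [← map_mul, ← map_mul]
      congr 1
      ext
      · rw [mul_a, mul_a, add_comm]
      · rw [mul_b, mul_b, hza, map_zero, zero_mul, mul_zero, add_comm u.b]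
    · rw [← map_mul, ← map_mul, ← map_mul, hxy]
    · have h1 := tor_conj a0 z z⁻¹ (by rw [inv_a, hza, neg_zero, mul_zero]) (by
        rw [inv_b, hsz, hs0]
        linear_combination z.b * ha04 * (-1))
      rw [← map_inv, ← h1]
      group
    · rintro _ ⟨u, rfl⟩
      have hd : (a0 : K)⁻¹ - 1 ≠ 0 := by
        intro h
        apply ha01
        simpa using sub_eq_zero.1 h
      obtain ⟨t, ht⟩ := aHom_surjective (σ := σ) (by norm_num) hs hK (u.a / ((a0 : K)⁻¹ - 1))
      have hh : -t.b + σ (-t.b) = ((a0 : K)⁻¹ * t.a) * σ ((a0 : K)⁻¹ * t.a) := by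
        have h2 := t.h
        rw [map_neg, map_mul, map_inv₀, hs0]
        have h5 : (a0 : K)⁻¹ * ((a0 : K) ^ 3)⁻¹ = -1 := by
          rw [← mul_inv, ← pow_succ', ha04]
          norm_num
        linear_combination -h2 - t.a * σ t.a * h5
      set t' : HG σ := ⟨(a0 : K)⁻¹ * t.a, -t.b, hh⟩ with ht'
      have h1 := tor_conj a0 t t' (by
        change (a0 : K)⁻¹ * t.a = _
        rw [hs0]
        field_simp) (by
        change -t.b = _
        rw [hs0]
        linear_combination t.b * ha04 * (-1))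
      -- the remaining factor
      obtain ⟨s, hs'⟩ : ∃ s : HG σ, u = t' * t⁻¹ * s := ⟨(t' * t⁻¹)⁻¹ * u, by group⟩
      have hsa : s.a = 0 := by
        have := congrArg HG.a hs'
        rw [mul_a, mul_a, inv_a] at this
        change u.a = (a0 : K)⁻¹ * t.a + -t.a + s.a at this
        have h2 : t.a * ((a0 : K)⁻¹ - 1) = u.a := by rw [ht, div_mul_cancel₀ _ hd]
        linear_combination -this - h2
      have hsb : σ s.b = -s.b := by
        have := s.h
        rw [hsa, zero_mul] at this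
        linear_combination this
      obtain ⟨k, hk⟩ : ∃ k : ℕ, s = z ^ k := by
        set c := s.b / z.b with hc
        have hsc : c ^ 3 = c := by
          rw [← hs, hc, map_div₀, hsb, hsz, neg_div_neg_eq]
        have hc3 : c * ((c - 1) * (c + 1)) = 0 := by linear_combination hsc
        have hsbc : s.b = c * z.b := by rw [hc, div_mul_cancel₀ _ hzb0]
        rcases mul_eq_zero.1 hc3 with h4 | h4
        · refine ⟨0, ?_⟩
          ext
          · rw [hsa, (hzpow 0).1]
          · rw [hsbc, h4, (hzpow 0).2, Nat.cast_zero]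
        rcases mul_eq_zero.1 h4 with h5 | h5
        · refine ⟨1, ?_⟩
          ext
          · rw [hsa, (hzpow 1).1]
          · rw [hsbc, sub_eq_zero.1 h5, (hzpow 1).2, Nat.cast_one]
        · refine ⟨2, ?_⟩
          ext
          · rw [hsa, (hzpow 2).1]
          · rw [hsbc, eq_neg_of_add_eq_zero_left h5, (hzpow 2).2]
            push_cast
            linear_combination -z.b * h3K
      refine ⟨emb σ t, ⟨t, rfl⟩, k, ?_⟩
      rw [h1, hs', hk, map_mul, map_mul, map_inv, map_pow]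
  · intro b hb
    obtain ⟨u, hu, a, rfl⟩ := borel_eq b hb
    have h1 := ha0 a
    rw [← mem_powers_iff_mem_zpowers] at h1
    obtain ⟨k, rfl⟩ := h1
    exact ⟨u, hu, k, by rw [map_pow]⟩
  · rw [wel_tor, ← map_pow]
    congr 2
    apply Units.ext
    rw [Units.val_pow_eq_pow_val]
    exact hs _

end Group

section Ext

variable {G : Type*} [Group G] {F A : Type*} [Field F] [Field A] [Algebra F A] {ι : Type} [Fintype ι] [DecidableEq ι]

/-- Extension of scalars. -/
def extRep (A : Type*) [Field A] [Algebra F A] (ρ : G →* Matrix ι ι F) : G →* Matrix ι ι A :=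
  ((algebraMap F A).mapMatrix (m := ι)).toMonoidHom.comp ρ

theorem extRep_apply (ρ : G →* Matrix ι ι F) (g : G) : extRep A ρ g = (ρ g).map (algebraMap F A) := rfl

theorem span_extRep {ρ : G →* Matrix ι ι F} (h : Submodule.span F (Set.range ρ) = ⊤) :
    Submodule.span A (Set.range (extRep A ρ)) = ⊤ := by
  have key : ∀ Y ∈ Submodule.span F (Set.range ρ), Y.map (algebraMap F A) ∈ Submodule.span A (Set.range (extRep A ρ)) := by
    intro Y hY
    induction hY using Submodule.span_induction with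
    | mem s hs =>
      obtain ⟨g, rfl⟩ := hs
      exact Submodule.subset_span ⟨g, rfl⟩
    | zero =>
      have : ((0 : Matrix ι ι F)).map (algebraMap F A) = 0 := by ext i j; simp
      rw [this]
      exact Submodule.zero_mem _
    | add a b _ _ ha hb =>
      have : (a + b).map (algebraMap F A) = a.map (algebraMap F A) + b.map (algebraMap F A) := by ext i j; simp only [_root_.Matrix.map_apply, _root_.Matrix.add_apply, _root_.map_add]
      rw [this]
      exact Submodule.add_mem _ ha hb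
    | smul c a _ ha =>
      have : (c • a).map (algebraMap F A) = algebraMap F A c • a.map (algebraMap F A) := by ext i j; simp
      rw [this]
      exact Submodule.smul_mem _ _ ha
  rw [eq_top_iff]
  rintro X -
  rw [Matrix.matrix_eq_sum_single X]
  refine Submodule.sum_mem _ fun i _ => Submodule.sum_mem _ fun j _ => ?_
  have h1 := key (Matrix.single i j 1) (by rw [h]; trivial)
  have h2 : Matrix.single i j (X i j) = X i j • ((Matrix.single i j (1 : F)).map (algebraMap F A)) := by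
    ext a b
    by_cases hab : i = a ∧ j = b
    · obtain ⟨rfl, rfl⟩ := hab
      simp
    · simp [hab]
  rw [h2]
  exact Submodule.smul_mem _ _ h1

theorem trace_extRep (ρ : G →* Matrix ι ι F) (g : G) : (extRep A ρ g).trace = algebraMap F A (ρ g).trace := by
  simp only [extRep_apply, Matrix.trace, map_sum, _root_.Matrix.diag_apply, _root_.Matrix.map_apply]

end Ext

theorem seven_U33 {F : Type*} [Field F] [Finite F] (p : ℕ) [Fact p.Prime] [CharP F p] (hp : p ≠ 3) {K : Type} [Field K] [Fintype K] (hK : Fintype.card K = 9)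
    (ρ : Cfsg.PSU 3 K 3 →* Matrix.GeneralLinearGroup (Fin 7) F) (habs : Cfsg.Geo.ActsAbsolutelyIrreducibly (Cfsg.Geo.matrixSet ρ.range))  :
    (∀ g, ((ρ g⁻¹ : Matrix.GeneralLinearGroup (Fin 7) F) : Matrix (Fin 7) (Fin 7) F).trace = ((ρ g : Matrix.GeneralLinearGroup (Fin 7) F) : Matrix (Fin 7) (Fin 7) F).trace)
    ∨ (p ≠ 2 ∧ (p % 4 = 1 → ∀ g, ((ρ g : Matrix.GeneralLinearGroup (Fin 7) F) : Matrix (Fin 7) (Fin 7) F).trace ^ p = ((ρ g : Matrix.GeneralLinearGroup (Fin 7) F) : Matrix (Fin 7) (Fin 7) F).trace) ∧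
      (p % 4 = 3 → ∀ g, ((ρ g⁻¹ : Matrix.GeneralLinearGroup (Fin 7) F) : Matrix (Fin 7) (Fin 7) F).trace = ((ρ g : Matrix.GeneralLinearGroup (Fin 7) F) : Matrix (Fin 7) (Fin 7) F).trace ^ p)) := by
  classical
  have hcK : Nat.card K = 3 ^ 2 := by rw [Nat.card_eq_fintype_card, hK]; norm_num
  -- characteristic of K
  obtain ⟨r, hr⟩ := CharP.exists K
  have hrp : r.Prime := CharP.char_is_prime K r
  have hr3 : r = 3 := by
    have h1 : ((Fintype.card K : ℕ) : K) = 0 := Nat.cast_card_eq_zero K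
    rw [CharP.cast_eq_zero_iff K r, hK, show 9 = 3 ^ 2 by norm_num] at h1
    exact (Nat.prime_dvd_prime_iff_eq hrp Nat.prime_three).1 (hrp.dvd_of_dvd_pow h1)
  subst hr3
  have hexp : ExpChar K 3 := ExpChar.prime Nat.prime_three
  set σ : K →+* K := frobenius K 3 with hσdef
  have hs : ∀ x, σ x = x ^ 3 := fun x => frobenius_def _ _
  have hσ : Fact (∀ x, σ (σ x) = x) := ⟨fun x => by
    rw [hs, hs, ← pow_mul]
    have := FiniteField.pow_card x
    rwa [hK] at this⟩
  obtain ⟨q, hqs, hqk⟩ := exists_psu_hom (σ := σ) (by norm_num) hs hcK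
  obtain ⟨h, z, x, y, hz1, H, hB, hn⟩ := exists_hdata hs hcK
  -- the representation
  let ρ' : SUG σ →* Matrix (Fin 7) (Fin 7) F := (Units.coeHom _).comp (ρ.comp q)
  have hspan : Submodule.span F (Set.range ρ') = ⊤ := by
    rw [← span_subtype habs]
    congr 1
    ext X
    constructor
    · rintro ⟨g, rfl⟩
      exact ⟨⟨ρ (q g), q g, rfl⟩, rfl⟩
    · rintro ⟨⟨_, g, rfl⟩, rfl⟩
      obtain ⟨g, rfl⟩ := hqs g
      exact ⟨g, rfl⟩
  let A := AlgebraicClosure F
  have hAp : CharP A p := charP_of_injective_algebraMap (algebraMap F A).injective p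
  have hpp : p.Prime := Fact.out
  have hexpA : ExpChar A p := ExpChar.prime hpp
  have h3A : (3 : A) ≠ 0 := by
    intro h0
    have h1 : ((3 : ℕ) : A) = 0 := by exact_mod_cast h0
    rw [CharP.cast_eq_zero_iff A p] at h1
    exact hp ((Nat.prime_dvd_prime_iff_eq hpp Nat.prime_three).1 h1)
  let ρA : SUG σ →* Matrix (Fin 7) (Fin 7) A := extRep A ρ'
  have hspanA : Submodule.span A (Set.range ρA) = ⊤ := span_extRep hspan
  have hρz : ρA (emb σ z) ≠ 1 := by
    intro h0
    have h1 : ρ (q (emb σ z)) = 1 := by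
      apply Units.ext
      ext i j
      apply (algebraMap F A).injective
      have := congrFun (congrFun h0 i) j
      change algebraMap F A ((ρ (q (emb σ z)) : Matrix (Fin 7) (Fin 7) F) i j) = _ at this
      rw [this]
      by_cases hij : i = j
      · subst hij; simp
      · simp [hij]
    have hsimp : IsSimpleGroup (Cfsg.PSU 3 K 3) :=
      Cfsg.Agent.LieClassical.HermSimple.isSimpleGroup_of_perfect (by rw [hK]; norm_num) le_rfl
        (Cfsg.Agent.LieClassical.HermPerfect.commutator_SU_eq_top (by rw [hK]; norm_num) le_rfl (by norm_num))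
    rcases IsSimpleGroup.eq_bot_or_eq_top_of_normal ρ.ker inferInstance with h2 | h2
    · have h3 : q (emb σ z) ∈ ρ.ker := h1
      rw [h2, Subgroup.mem_bot] at h3
      have h4 : emb σ z ∈ Subgroup.center (SUG σ) := by rw [← hqk]; exact h3
      exact hz1 (eq_one_of_mem_center h4)
    · have hall : ∀ g, ρ' g = 1 := by
        intro g
        have h3 : q g ∈ ρ.ker := by rw [h2]; trivial
        have h4 : ρ (q g) = 1 := h3
        change ((ρ (q g) : Matrix.GeneralLinearGroup (Fin 7) F) : Matrix (Fin 7) (Fin 7) F) = 1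
        rw [h4, Units.val_one]
      have hle : Submodule.span F (Set.range ρ') ≤ F ∙ (1 : Matrix (Fin 7) (Fin 7) F) := by
        rw [Submodule.span_le]
        rintro _ ⟨g, rfl⟩
        rw [hall g]
        exact Submodule.mem_span_singleton_self _
      have h3 : Matrix.single 0 1 (1 : F) ∈ F ∙ (1 : Matrix (Fin 7) (Fin 7) F) := hle (by rw [hspan]; trivial)
      obtain ⟨c, hc⟩ := Submodule.mem_span_singleton.1 h3
      have h4 := congrFun (congrFun hc 0) 1
      rw [Matrix.smul_apply, Matrix.one_apply_ne (by decide), smul_zero, Matrix.single_apply_same] at h4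
      exact zero_ne_one h4
  obtain ⟨v, φ, l, had⟩ := exists_ad h3A H ρA hρz
  have hcard : Nat.card (emb σ).range = 27 := by
    have h1 := card_HG (σ := σ) (by norm_num) hs hcK
    rw [← Nat.card_congr (MonoidHom.ofInjective (emb_injective (σ := σ))).toEquiv, h1]
    norm_num
  have hfin : Finite (emb σ).range := Nat.finite_of_card_ne_zero (by rw [hcard]; norm_num)
  have hl4 : l ^ 4 = 1 := pow_eq_one data_SUG hB had (by rw [hcard]; simp) hn
  have hl1 : l ≠ 1 := ne_one data_SUG hB hspanA had (by rw [hcard]; simp) (by simp)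
  have htr : ∀ g, (ρA g).trace = algebraMap F A (((ρ (q g) : Matrix.GeneralLinearGroup (Fin 7) F) : Matrix (Fin 7) (Fin 7) F).trace) :=
    fun g => trace_extRep ρ' g
  have htri : ∀ g, (ρA g⁻¹).trace = algebraMap F A (((ρ (q g)⁻¹ : Matrix.GeneralLinearGroup (Fin 7) F) : Matrix (Fin 7) (Fin 7) F).trace) := by
    intro g
    rw [htr, map_inv q]
  have hlf : (l ^ 2 - 1) * (l ^ 2 + 1) = 0 := by linear_combination hl4
  rcases mul_eq_zero.1 hlf with h2 | h2
  · -- l = -1
    left
    have hl : l = -1 := by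
      have h3 : (l - 1) * (l + 1) = 0 := by linear_combination h2
      rcases mul_eq_zero.1 h3 with h4 | h4
      · exact absurd (sub_eq_zero.1 h4) hl1
      · exact eq_neg_of_add_eq_zero_left h4
    intro g
    obtain ⟨g, rfl⟩ := hqs g
    apply (algebraMap F A).injective
    rw [← htr, ← htri]
    have hc := had.contra
    have hli : l⁻¹ = l := by rw [hl]; norm_num only []
    rw [hli] at hc
    have h5 := trace_eq data_SUG hB hspanA (span_contra hspanA) had hc (by rw [hcard]; simp) g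
    rwa [contra_apply, Matrix.trace_transpose] at h5
  · -- l² = -1
    right
    have hl2 : l ^ 2 = -1 := eq_neg_of_add_eq_zero_left h2
    have hp2 : p ≠ 2 := by
      rintro rfl
      have h3 : (l - 1) ^ 2 = 0 := by
        have h4 : (2 : A) = 0 := by exact_mod_cast CharP.cast_eq_zero A 2
        linear_combination hl2 - l * h4
      exact hl1 (sub_eq_zero.1 (pow_eq_zero_iff (two_ne_zero) |>.1 h3))
    let σA : A ≃+* A := frobeniusEquiv A p
    have hσA : ∀ x, σA x = x ^ p := fun x => frobeniusEquiv_def A p x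
    have htw := had.twist σA
    rw [hσA] at htw
    refine ⟨hp2, ?_, ?_⟩
    · intro hp4 g
      obtain ⟨g, rfl⟩ := hqs g
      apply (algebraMap F A).injective
      have hlp : l ^ p = l := by
        have e : p = 4 * (p / 4) + 1 := by omega
        rw [e, pow_succ, pow_mul, hl4, one_pow, one_mul]
      rw [hlp] at htw
      have h5 := trace_eq data_SUG hB hspanA (span_twist σA hspanA) had htw (by rw [hcard]; simp) g
      rw [twist_apply, map_trace', hσA, htr] at h5
      rw [map_pow]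
      exact h5
    · intro hp4 g
      obtain ⟨g, rfl⟩ := hqs g
      apply (algebraMap F A).injective
      have hlp : l ^ p = l⁻¹ := by
        have e : p = 4 * (p / 4) + 3 := by omega
        rw [e, pow_add, pow_mul, hl4, one_pow, one_mul]
        refine eq_inv_of_mul_eq_one_left ?_
        rw [← pow_succ]
        exact hl4
      rw [hlp] at htw
      have h5 := trace_eq data_SUG hB (span_contra hspanA) (span_twist σA hspanA) had.contra htw
        (by rw [hcard]; simp) g
      rw [twist_apply, map_trace', hσA, contra_apply, Matrix.trace_transpose, htr, htri] at h5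
      rw [map_pow]
      exact h5.symm

end Cfsg.Agent.H659.SevenU33
end
end
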